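/-
helper27 library (S2045, the Schur multiplier of `Co3`): the abstract argument.  Let `G` have order
`495766656000 = 48600 * 10200960`, a perfect subgroup `U` of order `10200960` with trivial multiplier containing
`a`, `b`, and a third element `c` of prime order `q ∈ {7, 11, 23}`, such that `a b c` satisfy a list of relators
for which the monomial coset enumeration over `⟨a, b⟩` closes with at most `n ≤ 48600` cosets whenever the
"exact" relators hold exactly and the others hold up to a central subgroup meeting `⟨a, b⟩` trivially.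
Then every finite stem extension of `G` is an isomorphism.
-/
import Cfsg.Agent.Lib.H17.M22M.AbsTools
import Cfsg.Agent.Lib.H28.StemLift

set_option autoImplicit false

namespace Cfsg.Agent.Lib.H27.Co3M

open Subgroup
open scoped commutatorElement

section words

variable {Γ : Type*} [Group Γ] (ga gb gc : Γ)

/-- the letters -/
def gl (x : ℕ) : Γ :=
  match x with
  | 0 => ga | 1 => ga⁻¹ | 2 => gb | 3 => gb⁻¹ | 4 => gc | 5 => gc⁻¹ | _ => 1

/-- the value of a word -/
def wv (w : List ℕ) : Γ := (w.map (gl ga gb gc)).prod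

theorem wv_nil : wv ga gb gc [] = 1 := rfl

theorem wv_cons (x : ℕ) (w : List ℕ) : wv ga gb gc (x :: w) = gl ga gb gc x * wv ga gb gc w := by
  unfold wv
  rw [List.map_cons, List.prod_cons]

theorem wv_append (u w : List ℕ) : wv ga gb gc (u ++ w) = wv ga gb gc u * wv ga gb gc w := by
  unfold wv
  rw [List.map_append, List.prod_append]

theorem map_gl {K L : Type*} [Group K] [Group L] (f : K →* L) (x y z : K) (i : ℕ) :
    f (gl x y z i) = gl (f x) (f y) (f z) i := by
  unfold gl
  split <;> simp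

theorem map_wv {K L : Type*} [Group K] [Group L] (f : K →* L) (x y z : K) (w : List ℕ) :
    f (wv x y z w) = wv (f x) (f y) (f z) w := by
  induction w with
  | nil => rw [wv_nil, wv_nil, map_one]
  | cons i w ih => rw [wv_cons, wv_cons, map_mul, ih, map_gl]

/-- a word in the first two generators only -/
def abOnly (w : List ℕ) : Bool := w.all (fun x => decide (x < 4))

theorem gl_mem_of_lt {x : ℕ} (hx : x < 4) : gl ga gb gc x ∈ closure ({ga, gb} : Set Γ) := by
  have ha : ga ∈ closure ({ga, gb} : Set Γ) := subset_closure (by simp)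
  have hb : gb ∈ closure ({ga, gb} : Set Γ) := subset_closure (by simp)
  interval_cases x
  · exact ha
  · exact inv_mem ha
  · exact hb
  · exact inv_mem hb

theorem wv_mem_of_abOnly {w : List ℕ} (h : abOnly w = true) :
    wv ga gb gc w ∈ closure ({ga, gb} : Set Γ) := by
  induction w with
  | nil => rw [wv_nil]; exact one_mem _
  | cons x w ih =>
    unfold abOnly at h ih
    rw [List.all_cons, Bool.and_eq_true, decide_eq_true_eq] at h
    rw [wv_cons]
    exact mul_mem (gl_mem_of_lt ga gb gc h.1) (ih h.2)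

/-- the inverse of a letter -/
def invL (x : ℕ) : ℕ :=
  match x with
  | 0 => 1 | 1 => 0 | 2 => 3 | 3 => 2 | 4 => 5 | 5 => 4 | y => y

theorem gl_invL (x : ℕ) : gl ga gb gc (invL x) = (gl ga gb gc x)⁻¹ := by
  rcases x with _ | _ | _ | _ | _ | _ | x <;> simp [invL, gl]

/-- the inverse word -/
def invW (w : List ℕ) : List ℕ := (w.map invL).reverse

theorem wv_invW (w : List ℕ) : wv ga gb gc (invW w) = (wv ga gb gc w)⁻¹ := by
  induction w with
  | nil => simp [invW, wv]
  | cons x w ih =>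
    have e : invW (x :: w) = invW w ++ [invL x] := by
      simp [invW]
    rw [e, wv_append, ih, wv_cons, wv_cons, wv_nil, mul_one, gl_invL, mul_inv_rev]

theorem wv_replicate4 (k : ℕ) : wv ga gb gc (List.replicate k 4) = gc ^ k := by
  induction k with
  | zero => simp [wv]
  | succ k ih =>
    rw [List.replicate_succ, wv_cons, ih, pow_succ']
    rfl

theorem wv_replicate5 (k : ℕ) : wv ga gb gc (List.replicate k 5) = (gc ^ k)⁻¹ := by
  induction k with
  | zero => simp [wv]
  | succ k ih =>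
    rw [List.replicate_succ, wv_cons, ih, pow_succ, mul_inv_rev]
    rfl

/-- the relator `x c x⁻¹ = c ^ k` -/
def conjW (x : List ℕ) (k : ℕ) : List ℕ := x ++ 4 :: (invW x ++ List.replicate k 5)

theorem wv_conjW (x : List ℕ) (k : ℕ) :
    wv ga gb gc (conjW x k) = wv ga gb gc x * gc * (wv ga gb gc x)⁻¹ * (gc ^ k)⁻¹ := by
  unfold conjW
  rw [wv_append, wv_cons, wv_append, wv_invW, wv_replicate5]
  change wv ga gb gc x * (gc * _) = _
  group

/-- the admissible exact relators: words in `a`, `b`; the power relator of `c`; the listed conjugation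
relators -/
def exactOK (q : ℕ) (conjL : List (List ℕ × ℕ)) (w : List ℕ) : Bool :=
  abOnly w || decide (w = List.replicate q 4) || conjL.any (fun p => decide (w = conjW p.1 p.2))

/-- the relator `x k x⁻¹ = h` -/
def conj2W (x k h : List ℕ) : List ℕ := x ++ (k ++ (invW x ++ invW h))

/-- the admissible exact relators, second form: also the listed relators `x k x⁻¹ = h` with words `k`, `h` in
`a`, `b` (the order of `k` is given in the last component) -/
def exactOK2 (q : ℕ) (conj2L : List (List ℕ × List ℕ × List ℕ × ℕ)) (w : List ℕ) : Bool :=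
  abOnly w || decide (w = List.replicate q 4) ||
    conj2L.any (fun p => decide (w = conj2W p.1 p.2.1 p.2.2.1) && abOnly p.2.1 && abOnly p.2.2.1 &&
      decide (Nat.Coprime p.2.2.2 279936000))

/-- the hypotheses of the certificate -/
structure Setting (exactL relL : List (List ℕ)) (N : ℕ) (A : Subgroup Γ) : Prop where
  central : A ≤ Subgroup.center Γ
  disj : ∀ x ∈ Subgroup.closure {ga, gb}, x ∈ A → x = 1
  exact : ∀ w ∈ exactL, wv ga gb gc w = 1
  rel : ∀ w ∈ relL, wv ga gb gc w ∈ A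
  gen : Subgroup.closure {ga, gb, gc} = ⊤
  tors : ∀ z ∈ A, z ^ N = 1

end words

/-- The conclusion of the certificate: at most `n` cosets. -/
def Bound (exactL relL : List (List ℕ)) (N n : ℕ) : Prop :=
  ∀ (Γ : Type) [Group Γ] (ga gb gc : Γ) (A : Subgroup Γ), Setting ga gb gc exactL relL N A →
    Finite (Γ ⧸ Subgroup.closure {ga, gb}) ∧ Nat.card (Γ ⧸ Subgroup.closure {ga, gb}) ≤ n

/-- The data on the group `G`. -/
structure Base {G : Type} [Group G] (exactL relL : List (List ℕ)) (q : ℕ)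
    (am bm cm : G) (U : Subgroup G) : Prop where
  rel : ∀ w ∈ exactL ++ relL, wv am bm cm w = 1
  cq : cm ^ q = 1
  q_cop : Nat.Coprime q 279936000
  gen : closure {am, bm, cm} = ⊤
  card : Nat.card G = 495766656000
  cardU : Nat.card U = 10200960
  a_mem : am ∈ U
  b_mem : bm ∈ U
  perf : ⁅U, U⁆ = U
  mult : ∀ (E : Type) [Group E] [Finite E] (τ : E →* ↥U), Cfsg.IsStemExtension τ → τ.ker = ⊥

section main

variable {G : Type} [Group G] {exactL relL : List (List ℕ)} {q : ℕ}
  {am bm cm : G} {U : Subgroup G}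

theorem Base.finite (B : Base exactL relL q am bm cm U) : Finite G :=
  Nat.finite_of_card_ne_zero (by rw [B.card]; norm_num)

theorem Base.index_U (B : Base exactL relL q am bm cm U) : U.index = 48600 := by
  have h := Subgroup.index_mul_card U
  rw [B.card, B.cardU] at h
  omega

/-- the kernel of a finite stem extension has exponent dividing `2^10 * 3^7 * 5^3` -/
theorem Base.ker_pow (B : Base exactL relL q am bm cm U) {Γ : Type} [Group Γ] [Finite Γ]
    (σ : Γ →* G) (hσ : Cfsg.IsStemExtension σ) : ∀ z ∈ σ.ker, z ^ 279936000 = 1 := by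
  intro z hz
  have h1 : z ^ 495766656000 = 1 := by
    rw [← B.card]; exact Cfsg.Agent.Lib.H17.M22M.pow_card_eq_one σ hσ hz
  have hwk : z ^ 279936000 ∈ σ.ker := pow_mem hz _
  have hw : (z ^ 279936000) ^ 1771 = 1 := by rw [← pow_mul]; exact h1
  exact Cfsg.Agent.Lib.H28.StemTools.eq_one_of_subgroup_trivial σ hσ U B.perf B.mult hwk hw
    (by rw [B.index_U]; norm_num)

/-- The lifted situation: a finite stem extension of `G`, lifts `a b` of `am bm` in the derived subgroup of the
preimage of `U`, a lift `c` of `cm` of order dividing `q`. -/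
structure Lift (B : Base exactL relL q am bm cm U) {Γ : Type} [Group Γ] [Finite Γ] (σ : Γ →* G)
    (a b c : Γ) : Prop where
  stem : Cfsg.IsStemExtension σ
  haL : a ∈ Cfsg.Agent.Lib.H28.StemLift.L σ U
  hbL : b ∈ Cfsg.Agent.Lib.H28.StemLift.L σ U
  ha : σ a = am
  hb : σ b = bm
  hc : σ c = cm
  hcq : c ^ q = 1

section lift

variable {B : Base exactL relL q am bm cm U} {Γ : Type} [Group Γ] [Finite Γ] {σ : Γ →* G} {a b c : Γ}

theorem Lift.map_wv (T : Lift B σ a b c) (w : List ℕ) : σ (wv a b c w) = wv am bm cm w := by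
  rw [Cfsg.Agent.Lib.H27.Co3M.map_wv, T.ha, T.hb, T.hc]

theorem Lift.closure_le (T : Lift B σ a b c) :
    closure ({a, b} : Set Γ) ≤ Cfsg.Agent.Lib.H28.StemLift.L σ U := by
  rw [Subgroup.closure_le]
  rintro x (rfl | rfl)
  · exact T.haL
  · exact T.hbL

/-- the lifted subgroup meets the kernel trivially -/
theorem Lift.disj (T : Lift B σ a b c) : ∀ x ∈ closure ({a, b} : Set Γ), x ∈ σ.ker → x = 1 :=
  fun x hx hxk =>
    Cfsg.Agent.Lib.H28.StemLift.L_inf_ker σ T.stem.1 T.stem.2.1 U B.perf B.mult (T.closure_le hx)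
      (MonoidHom.mem_ker.1 hxk)

/-- two words in `a`, `b` with the same value in `G` have the same value in the extension -/
theorem Lift.ab_eq (T : Lift B σ a b c) {u v : List ℕ} (hu : abOnly u = true) (hv : abOnly v = true)
    (h : wv am bm cm u = wv am bm cm v) : wv a b c u = wv a b c v := by
  have h1 : (wv a b c u)⁻¹ * wv a b c v ∈ closure ({a, b} : Set Γ) :=
    mul_mem (inv_mem (wv_mem_of_abOnly a b c hu)) (wv_mem_of_abOnly a b c hv)
  have h2 : (wv a b c u)⁻¹ * wv a b c v ∈ σ.ker := by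
    rw [MonoidHom.mem_ker, map_mul, map_inv, T.map_wv, T.map_wv, h, inv_mul_cancel]
  exact inv_mul_eq_one.1 (T.disj _ h1 h2)

/-- (i) a word in `a`, `b` trivial in `G` is trivial -/
theorem Lift.exact_ab (T : Lift B σ a b c) {w : List ℕ} (hw : abOnly w = true)
    (h : wv am bm cm w = 1) : wv a b c w = 1 :=
  T.disj _ (wv_mem_of_abOnly a b c hw) (by rw [MonoidHom.mem_ker, T.map_wv, h])

/-- (ii) the power relator of `c` -/
theorem Lift.exact_pow (T : Lift B σ a b c) : wv a b c (List.replicate q 4) = 1 := by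
  rw [wv_replicate4]; exact T.hcq

/-- a power of a word in `a`, `b` trivial in `G` is trivial -/
theorem Lift.ab_pow (T : Lift B σ a b c) {k : List ℕ} (hk : abOnly k = true) {m : ℕ}
    (h : wv am bm cm k ^ m = 1) : wv a b c k ^ m = 1 :=
  T.disj _ (pow_mem (wv_mem_of_abOnly a b c hk) m) (by rw [MonoidHom.mem_ker, map_pow, T.map_wv, h])

/-- uniqueness of lifts of order prime to the kernel -/
theorem Lift.eq_of_pow (T : Lift B σ a b c) {m : ℕ} (hm : Nat.Coprime m 279936000) {y y' : Γ}
    (hy : y ^ m = 1) (hy' : y' ^ m = 1) (h : σ y = σ y') : y = y' := by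
  have hN := B.ker_pow σ T.stem
  set t : Γ := y'⁻¹ * y with ht
  have htk : t ∈ σ.ker := by rw [MonoidHom.mem_ker, ht, map_mul, map_inv, h, inv_mul_cancel]
  have hcen : Commute y' t := (Subgroup.mem_center_iff.1 (T.stem.2.1 htk)) y'
  have hy2 : y = y' * t := by rw [ht]; group
  have h1 : t ^ m = 1 := by
    have := hy
    rw [hy2, hcen.mul_pow, hy', one_mul] at this
    exact this
  have h2 : t ^ 279936000 = 1 := hN t htk
  have hd := Nat.dvd_gcd (orderOf_dvd_of_pow_eq_one h1) (orderOf_dvd_of_pow_eq_one h2)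
  rw [hm.gcd_eq_one, Nat.dvd_one] at hd
  rw [hy2, orderOf_eq_one_iff.1 hd, mul_one]

/-- (iii) the relator `x c x⁻¹ = c ^ k` -/
theorem Lift.exact_conj (T : Lift B σ a b c) (x : List ℕ) (k : ℕ)
    (h : wv am bm cm (conjW x k) = 1) : wv a b c (conjW x k) = 1 := by
  rw [wv_conjW] at h ⊢
  have key : wv a b c x * c * (wv a b c x)⁻¹ = c ^ k := by
    apply T.eq_of_pow B.q_cop
    · rw [conj_pow, T.hcq, mul_one, mul_inv_cancel]
    · rw [← pow_mul, mul_comm, pow_mul, T.hcq, one_pow]
    · rw [map_mul, map_mul, map_inv, map_pow, T.map_wv, T.hc]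
      exact mul_inv_eq_one.1 h
  rw [key, mul_inv_cancel]

theorem wv_conj2W {Δ : Type*} [Group Δ] (ga gb gc : Δ) (x k h : List ℕ) :
    wv ga gb gc (conj2W x k h) =
      wv ga gb gc x * wv ga gb gc k * (wv ga gb gc x)⁻¹ * (wv ga gb gc h)⁻¹ := by
  unfold conj2W
  rw [wv_append, wv_append, wv_append, wv_invW, wv_invW]
  group

/-- (iv) the relator `x k x⁻¹ = h` for words `k`, `h` in `a`, `b` of order prime to the kernel -/
theorem Lift.exact_conj2 (T : Lift B σ a b c) (x k h : List ℕ) (hk : abOnly k = true)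
    (hh : abOnly h = true) {m : ℕ} (hm : Nat.Coprime m 279936000) (hkm : wv am bm cm k ^ m = 1)
    (hG : wv am bm cm (conj2W x k h) = 1) : wv a b c (conj2W x k h) = 1 := by
  rw [wv_conj2W] at hG ⊢
  have hG' : wv am bm cm x * wv am bm cm k * (wv am bm cm x)⁻¹ = wv am bm cm h := mul_inv_eq_one.1 hG
  have hhm : wv am bm cm h ^ m = 1 := by rw [← hG', conj_pow, hkm, mul_one, mul_inv_cancel]
  have key : wv a b c x * wv a b c k * (wv a b c x)⁻¹ = wv a b c h := by
    apply T.eq_of_pow hm
    · rw [conj_pow, T.ab_pow hk hkm, mul_one, mul_inv_cancel]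
    · exact T.ab_pow hh hhm
    · rw [map_mul, map_mul, map_inv, T.map_wv, T.map_wv, T.map_wv]
      exact hG'
  rw [key, mul_inv_cancel]

/-- The pairs `(k, h)` of elements of the lifted subgroup with `y k y⁻¹ = h`. -/
def conjPairs (y : Γ) (H : Subgroup Γ) : Subgroup (Γ × Γ) where
  carrier := {p | p.1 ∈ H ∧ p.2 ∈ H ∧ y * p.1 * y⁻¹ = p.2}
  one_mem' := ⟨one_mem _, one_mem _, by simp⟩
  mul_mem' := by
    rintro ⟨k1, h1⟩ ⟨k2, h2⟩ ⟨a1, a2, a3⟩ ⟨b1, b2, b3⟩
    refine ⟨mul_mem a1 b1, mul_mem a2 b2, ?_⟩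
    change y * (k1 * k2) * y⁻¹ = h1 * h2
    simp only [] at a3 b3
    rw [← a3, ← b3]; group
  inv_mem' := by
    rintro ⟨k1, h1⟩ ⟨a1, a2, a3⟩
    refine ⟨inv_mem a1, inv_mem a2, ?_⟩
    change y * k1⁻¹ * y⁻¹ = h1⁻¹
    simp only [] at a3
    rw [← a3]; group

end lift

/-- **Main theorem.** -/
theorem Base.ker_eq_bot_of_tors (B : Base exactL relL q am bm cm U) (N : ℕ)
    (hB : Bound exactL relL N 48600)
    (hex : ∀ (Γ : Type) [Group Γ] [Finite Γ] (σ : Γ →* G) (a b c : Γ), Lift B σ a b c →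
      ∀ w ∈ exactL, wv a b c w = 1)
    (Γ : Type) [Group Γ] [Finite Γ] (σ : Γ →* G) (hσ : Cfsg.IsStemExtension σ)
    (htors : ∀ z ∈ σ.ker, z ^ N = 1) : σ.ker = ⊥ := by
  have hN := B.ker_pow σ hσ
  have hfin := B.finite
  obtain ⟨hs, hc, hd⟩ := hσ
  -- the lifts
  obtain ⟨a, haL, ha⟩ := Cfsg.Agent.Lib.H28.StemLift.exists_lift σ hs U B.perf B.a_mem
  obtain ⟨b, hbL, hb⟩ := Cfsg.Agent.Lib.H28.StemLift.exists_lift σ hs U B.perf B.b_mem
  obtain ⟨c, hc', hcq⟩ := Cfsg.Agent.Lib.H17.M22M.exists_lift_pow σ hs hN B.q_cop B.cq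
  have T : Lift B σ a b c := ⟨⟨hs, hc, hd⟩, haL, hbL, ha, hb, hc', hcq⟩
  have hcl := T.closure_le
  have hdisj := T.disj
  have hrel : ∀ w ∈ relL, wv a b c w ∈ σ.ker := by
    intro w hw
    rw [MonoidHom.mem_ker, T.map_wv]
    exact B.rel w (List.mem_append_right _ hw)
  have hgen : closure {a, b, c} = ⊤ :=
    Cfsg.Agent.Lib.H17.M22M.closure_lift_eq_top σ hc hd {a, b, c} (by
      rw [Set.image_insert_eq, Set.image_insert_eq, Set.image_singleton, ha, hb, hc']
      exact B.gen)
  obtain ⟨hQfin, hQ⟩ := hB Γ a b c σ.ker ⟨hc, hdisj, hex Γ σ a b c T, hrel, hgen, htors⟩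
  -- counting
  set H : Subgroup Γ := closure ({a, b} : Set Γ) with hH
  have hHU : ∀ x : ↥H, σ x.1 ∈ U := fun x =>
    Cfsg.Agent.Lib.H28.StemLift.L_le σ U (hcl x.2)
  let f : ↥H → ↥U := fun x => ⟨σ x.1, hHU x⟩
  have hf : Function.Injective f := by
    intro x y hxy
    have h1 : σ x.1 = σ y.1 := congrArg Subtype.val hxy
    have h2 : x.1⁻¹ * y.1 ∈ σ.ker := by
      rw [MonoidHom.mem_ker, map_mul, map_inv, h1, inv_mul_cancel]
    have h3 := hdisj _ (H.mul_mem (H.inv_mem x.2) y.2) h2
    exact Subtype.ext (inv_mul_eq_one.1 h3)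
  have hHcard : Nat.card ↥H ≤ 10200960 := by
    have hUfin : Finite ↥U := inferInstance
    have := Nat.card_le_card_of_injective f hf
    rwa [B.cardU] at this
  have hΓ : Nat.card Γ = Nat.card (Γ ⧸ H) * Nat.card ↥H := by
    rw [← Subgroup.index_eq_card, Subgroup.index_mul_card]
  have hΓ2 : Nat.card Γ = Nat.card σ.ker * Nat.card G :=
    Cfsg.Agent.Lib.H28.StemTools.card_eq_card_ker_mul σ hs
  have hle : Nat.card Γ ≤ 48600 * 10200960 := by
    rw [hΓ]
    exact Nat.mul_le_mul hQ hHcard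
  rw [hΓ2, B.card] at hle
  have hk : Nat.card σ.ker ≤ 1 := by
    by_contra hcon
    have hcon' : 2 ≤ Nat.card σ.ker := by omega
    have : 2 * 495766656000 ≤ Nat.card σ.ker * 495766656000 := Nat.mul_le_mul_right _ hcon'
    omega
  have hk1 : Nat.card σ.ker = 1 := le_antisymm hk Nat.card_pos
  exact (Subgroup.card_eq_one).1 hk1

/-- the exactness hypothesis from the decidable classification (i)-(iii) -/
theorem Base.hex_of_exactOK (B : Base exactL relL q am bm cm U) (conjL : List (List ℕ × ℕ))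
    (hok : ∀ w ∈ exactL, exactOK q conjL w = true)
    (Γ : Type) [Group Γ] [Finite Γ] (σ : Γ →* G) (a b c : Γ) (T : Lift B σ a b c) :
    ∀ w ∈ exactL, wv a b c w = 1 := by
  intro w hw
  have hG : wv am bm cm w = 1 := B.rel w (List.mem_append_left _ hw)
  have hok := hok w hw
  unfold exactOK at hok
  rw [Bool.or_eq_true, Bool.or_eq_true] at hok
  rcases hok with (hab | hrep) | hconj
  · exact T.exact_ab hab hG
  · rw [decide_eq_true_eq] at hrep
    rw [hrep]
    exact T.exact_pow
  · rw [List.any_eq_true] at hconj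
    obtain ⟨p, -, hp⟩ := hconj
    rw [decide_eq_true_eq] at hp
    rw [hp] at hG ⊢
    exact T.exact_conj p.1 p.2 hG

/-- the exactness hypothesis from the decidable classification, second form -/
theorem Base.hex_of_exactOK2 (B : Base exactL relL q am bm cm U)
    (conj2L : List (List ℕ × List ℕ × List ℕ × ℕ))
    (hpow : ∀ p ∈ conj2L, wv am bm cm p.2.1 ^ p.2.2.2 = 1)
    (hok : ∀ w ∈ exactL, exactOK2 q conj2L w = true)
    (Γ : Type) [Group Γ] [Finite Γ] (σ : Γ →* G) (a b c : Γ) (T : Lift B σ a b c) :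
    ∀ w ∈ exactL, wv a b c w = 1 := by
  intro w hw
  have hG : wv am bm cm w = 1 := B.rel w (List.mem_append_left _ hw)
  have hok := hok w hw
  unfold exactOK2 at hok
  rw [Bool.or_eq_true, Bool.or_eq_true] at hok
  rcases hok with (hab | hrep) | hconj
  · exact T.exact_ab hab hG
  · rw [decide_eq_true_eq] at hrep
    rw [hrep]
    exact T.exact_pow
  · rw [List.any_eq_true] at hconj
    obtain ⟨p, hpm, hp⟩ := hconj
    rw [Bool.and_eq_true, Bool.and_eq_true, Bool.and_eq_true, decide_eq_true_eq,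
      decide_eq_true_eq] at hp
    obtain ⟨⟨⟨hw', hk⟩, hh⟩, hcop⟩ := hp
    rw [hw'] at hG ⊢
    exact T.exact_conj2 p.1 p.2.1 p.2.2.1 hk hh hcop (hpow p hpm) hG

/-- **Main theorem**, given the reduction to kernels of exponent `N` (`quot`, proved elsewhere for all groups). -/
theorem Base.ker_eq_bot (B : Base exactL relL q am bm cm U) (N k : ℕ) (hNk : 279936000 ∣ N ^ k)
    (hB : Bound exactL relL N 48600)
    (hex : ∀ (Γ : Type) [Group Γ] [Finite Γ] (σ : Γ →* G) (a b c : Γ), Lift B σ a b c →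
      ∀ w ∈ exactL, wv a b c w = 1)
    (quot : (∀ (Γ : Type) [Group Γ] [Finite Γ] (σ : Γ →* G), Cfsg.IsStemExtension σ →
        (∀ z ∈ σ.ker, z ^ N = 1) → σ.ker = ⊥) →
      ∀ (Γ : Type) [Group Γ] [Finite Γ] (σ : Γ →* G), Cfsg.IsStemExtension σ →
        (∀ z ∈ σ.ker, z ^ (N ^ k) = 1) → σ.ker = ⊥)
    (Γ : Type) [Group Γ] [Finite Γ] (σ : Γ →* G) (hσ : Cfsg.IsStemExtension σ) : σ.ker = ⊥ := by
  apply quot (fun Γ' _ _ σ' hσ' ht => B.ker_eq_bot_of_tors N hB hex Γ' σ' hσ' ht) Γ σ hσ
  intro z hz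
  obtain ⟨m, hm⟩ := hNk
  rw [hm, pow_mul, B.ker_pow σ hσ z hz, one_pow]

end main

end Cfsg.Agent.Lib.H27.Co3M
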