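/-
helper27 library (S2045): checking relators between three elements of `C3` given as words in the elementary
elements of `Co0`.
-/
import Cfsg.Agent.Lib.H27.Co3M.Abs
import Cfsg.Agent.Lib.H27.Co3Rel

set_option autoImplicit false

namespace Cfsg.Agent.Lib.H27.Co3M

open Cfsg Cfsg.Agent.Lib.H27.Eng Cfsg.Agent.Lib.H27.Co3Out Cfsg.Agent.Lib.H27.AutRigid

/-- the words of the six letters -/
def vals6 (L : List (List Gen)) (i : ℕ) : List Gen := L.getD i []

theorem coe_wv_eq {K : Subgroup Co0} (L : List (List Gen)) (aC bC cC : ↥K)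
    (h : ∀ i, ((gl aC bC cC i : ↥K) : Co0) = wordCo0 (vals6 L i)) (w : List ℕ) :
    ((wv aC bC cC w : ↥K) : Co0) = wordCo0 (patW (vals6 L) w) := by
  induction w with
  | nil => rw [wv_nil]; rfl
  | cons x w ih =>
    rw [wv_cons, Subgroup.coe_mul, ih, h]
    change _ = wordCo0 (wmul (vals6 L x) (patW (vals6 L) w))
    rw [wordCo0_wmul]

/-- the relator check -/
def relOK (L : List (List Gen)) (w : List ℕ) : Bool := wordIsOneF (patW (vals6 L) w)

theorem vals6_ok {L : List (List Gen)} (hL : L.all (fun w => w.all Gen.ok) = true) (i : ℕ) :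
    (vals6 L i).all Gen.ok = true := by
  unfold vals6
  rw [List.getD_eq_getElem?_getD]
  rcases h : L[i]? with _ | w
  · rfl
  · have hm : w ∈ L := List.mem_of_getElem? h
    rw [List.all_eq_true] at hL
    exact hL w hm

theorem wv_eq_one_of_relOK {K : Subgroup Co0} (L : List (List Gen)) (aC bC cC : ↥K)
    (hL : L.all (fun w => w.all Gen.ok) = true)
    (h : ∀ i, ((gl aC bC cC i : ↥K) : Co0) = wordCo0 (vals6 L i)) {w : List ℕ}
    (hw : relOK L w = true) : wv aC bC cC w = 1 := by
  apply Subtype.ext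
  rw [coe_wv_eq L aC bC cC h w, Subgroup.coe_one]
  exact wordCo0_eq_oneF (patW_ok (vals6_ok hL) w) hw

end Cfsg.Agent.Lib.H27.Co3M
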