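/-
helper27 library (S2045, the Schur multiplier of `Co3`): the group side.  The coordinate permutations of `M23`
form a perfect subgroup `U` of `C3` (the stabilizer of `(-5; -1^23)` in `Co0`) with trivial multiplier, of order
`10200960`, containing the generators `s` and `u`.
-/
import Cfsg.Agent.Lib.H27.Co3Out
import Cfsg.Agent.Lib.H28.M24Mult

set_option autoImplicit false

namespace Cfsg.Agent.Lib.H27.Co3M

open Cfsg MulAction Cfsg.Agent.Lib.H28 Cfsg.Agent.Lib.H27.Eng Cfsg.Agent.Lib.H27.Co3Out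
  Cfsg.Agent.Lib.H27.Co3GenData Cfsg.Agent.Lib.H27.OutM
open scoped commutatorElement

/-- `M23` inside `M24`. -/
theorem M23_le_M24 : Spor.M23 ≤ M24 := fun _ h => (mem_M23.1 h).1

/-- The coordinate permutations of `M23` as elements of `C3`. -/
noncomputable def phi : ↥Spor.M23 →* ↥C3 :=
  (permHom.comp (Subgroup.inclusion M23_le_M24)).codRestrict C3 (fun σ =>
    K4_le (pCo0_mem_K4 σ.1 σ.2))

theorem phi_coe (σ : ↥Spor.M23) : ((phi σ : ↥C3) : Co0) = pCo0 ⟨σ.1, M23_le_M24 σ.2⟩ := rfl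

theorem phi_injective : Function.Injective phi := by
  intro a b hab
  have h1 : permHom (Subgroup.inclusion M23_le_M24 a) = permHom (Subgroup.inclusion M23_le_M24 b) :=
    congrArg Subtype.val hab
  exact Subgroup.inclusion_injective M23_le_M24 (permHom_injective h1)

/-- The subgroup `M23` of `C3`. -/
noncomputable def U : Subgroup ↥C3 := phi.range

/-- `M23 ≃* U`. -/
noncomputable def eU : ↥Spor.M23 ≃* ↥U := MonoidHom.ofInjective phi_injective

/-- `U ≃* G23`. -/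
noncomputable def eUG : ↥U ≃* ↥M23Mult.G23 :=
  eU.symm.trans (MulEquiv.subgroupCongr M23Mult.M23_eq)

theorem U_perf : ⁅U, U⁆ = U :=
  M12Mult.perfect_subgroup_of_equiv U eUG M24Mult.commutator_G23

theorem U_mult : ∀ (E : Type) [Group E] [Finite E] (τ : E →* ↥U), Cfsg.IsStemExtension τ → τ.ker = ⊥ :=
  M12Mult.stem_trivial_of_equiv eUG (fun E _ _ τ hτ => M23Mult.ker_eq_bot E τ hτ)

theorem card_U : Nat.card ↥U = 10200960 := by
  rw [Nat.card_congr eUG.toEquiv]
  exact M23Mult.card_G23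

theorem mem_U_of_pCo0 (σ : Equiv.Perm GolayPt) (hσ : σ ∈ Spor.M23) (x : ↥C3)
    (hx : (x : Co0) = pCo0 ⟨σ, M23_le_M24 hσ⟩) : x ∈ U :=
  ⟨⟨σ, hσ⟩, Subtype.ext hx.symm⟩

theorem sw_mem23 : wordPerm sw ∈ Spor.M23 := K23_le (Subgroup.subset_closure (by simp))
theorem uw_mem23 : wordPerm uw ∈ Spor.M23 := K23_le (Subgroup.subset_closure (by simp))
theorem dw_mem23 : wordPerm dw ∈ Spor.M23 := K23_le (Subgroup.subset_closure (by simp))

theorem sC_mem_U : sC ∈ U := mem_U_of_pCo0 _ sw_mem23 sC (by rw [sC_coe]; exact pCo0_s.symm)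
theorem uC_mem_U : uC ∈ U := mem_U_of_pCo0 _ uw_mem23 uC (by rw [uC_coe]; exact pCo0_u.symm)
theorem dC_mem_U : dC ∈ U := mem_U_of_pCo0 _ dw_mem23 dC (by rw [dC_coe]; exact pCo0_d.symm)

/-- `C3 ≃* Co3`. -/
noncomputable def eC3 : ↥C3 ≃* ↥Spor.Co3 := Cfsg.Agent.Lib.H27.stabSubEquiv Co0 Spor.leechV

/-- `Co3` is generated by `s`, `d`, `u`, `z`. -/
theorem closure_C3 : Subgroup.closure {sC, dC, uC, zC} = (⊤ : Subgroup ↥C3) := by
  apply Subgroup.map_injective (Subgroup.subtype_injective C3)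
  rw [MonoidHom.map_closure, ← MonoidHom.range_eq_map, Subgroup.range_subtype]
  refine Eq.trans ?_ K4_eq
  unfold K4
  congr 1
  ext x
  simp only [Set.mem_image, Set.mem_insert_iff, Set.mem_singleton_iff, Subgroup.subtype_apply]
  constructor
  · rintro ⟨y, (rfl | rfl | rfl | rfl), rfl⟩
    · exact Or.inl rfl
    · exact Or.inr (Or.inl rfl)
    · exact Or.inr (Or.inr (Or.inl rfl))
    · exact Or.inr (Or.inr (Or.inr rfl))
  · rintro (rfl | rfl | rfl | rfl)
    · exact ⟨sC, Or.inl rfl, rfl⟩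
    · exact ⟨dC, Or.inr (Or.inl rfl), rfl⟩
    · exact ⟨uC, Or.inr (Or.inr (Or.inl rfl)), rfl⟩
    · exact ⟨zC, Or.inr (Or.inr (Or.inr rfl)), rfl⟩

end Cfsg.Agent.Lib.H27.Co3M
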