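/-
helper27 library (S2045): the three generators `a` (order 7), `b = s` (order 23), `c` (order 11) of `C3 ≃ Co3`
used by the monomial certificate, together with short words of elementary elements of `Co0` for them.
`a = s⁻¹u⁻¹u⁻¹s⁻¹usu⁻¹s⁻¹`, `c = p z (d m) z` with `p = us⁻¹us⁻¹u⁻¹sus⁻¹s⁻¹u⁻¹`, `m = s⁻¹s⁻¹u⁻¹su⁻¹s⁻¹`.
-/
import Cfsg.Agent.Lib.H27.Co3M.Side
import Cfsg.Agent.Lib.H27.Co3M.RelChk

set_option autoImplicit false
set_option maxRecDepth 100000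

namespace Cfsg.Agent.Lib.H27.Co3M

open Cfsg Cfsg.Agent.Lib.H27.Eng Cfsg.Agent.Lib.H27.Co3Out Cfsg.Agent.Lib.H27.Co3GenData

/-- the word of `u⁻¹` -/
def wUi : List Gen := [Gen.mono [0, 6, 4, 3, 18, 7, 2, 10, 12, 13, 20, 17, 9, 16, 22, 15, 8, 14, 1, 11, 21, 5, 19, 23] [0, 18, 6, 3, 2, 21, 1, 5, 16, 12, 7, 19, 8, 9, 17, 15, 13, 11, 4, 22, 10, 20, 14, 23] 0]

theorem wUi_ok : wUi.all Gen.ok = true := by decide +kernel

theorem wordCo0_wUi : wordCo0 wUi = (wordCo0 wU)⁻¹ := by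
  rw [eq_inv_iff_mul_eq_one, ← wordCo0_wmul]
  exact wordCo0_eq_oneF (wmul_ok wUi_ok wU_ok) (by decide +kernel)

/-- two words with a common left inverse have the same value -/
theorem wordCo0_eq_of_inv {wi w1 w2 : List Gen} (hi : wi.all Gen.ok = true) (h1 : w1.all Gen.ok = true)
    (h2 : w2.all Gen.ok = true) (c1 : wordIsOneF (wmul wi w1) = true)
    (c2 : wordIsOneF (wmul wi w2) = true) : wordCo0 w1 = wordCo0 w2 := by
  have e1 := wordCo0_eq_oneF (wmul_ok hi h1) c1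
  have e2 := wordCo0_eq_oneF (wmul_ok hi h2) c2
  rw [wordCo0_wmul] at e1 e2
  exact mul_left_cancel (e1.trans e2.symm)

/-- the words of `s s⁻¹ u u⁻¹` -/
def Lsu : List (List Gen) := [wS, wSi, wU, wUi]

theorem Lsu_ok : Lsu.all (fun w => w.all Gen.ok) = true := by decide +kernel

theorem gl_su_coe : ∀ i, ((gl sC uC (1 : ↥C3) i : ↥C3) : Co0) = wordCo0 (vals6 Lsu i) := by
  intro i
  rcases i with _ | _ | _ | _ | _ | _ | i
  · exact sC_coe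
  · change ((sC⁻¹ : ↥C3) : Co0) = wordCo0 wSi
    rw [wordCo0_wSi, Subgroup.coe_inv, sC_coe]
  · exact uC_coe
  · change ((uC⁻¹ : ↥C3) : Co0) = wordCo0 wUi
    rw [wordCo0_wUi, Subgroup.coe_inv, uC_coe]
  · rfl
  · change (((1 : ↥C3)⁻¹ : ↥C3) : Co0) = wordCo0 []
    rw [inv_one]; rfl
  · rfl

/-- `a` as a word in `s`, `u` -/
def aW : List ℕ := [1, 3, 3, 1, 2, 0, 3, 1]
/-- the part `p` of `c` -/
def pW : List ℕ := [2, 1, 2, 1, 3, 0, 2, 1, 1, 3]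
/-- the part `m` of `c` -/
def mW : List ℕ := [1, 1, 3, 0, 3, 1]

/-- the generator `a` of order 7 -/
noncomputable def aC : ↥C3 := wv sC uC 1 aW
/-- the generator `c` of order 11 -/
noncomputable def cC : ↥C3 := wv sC uC 1 pW * zC * (dC * wv sC uC 1 mW) * zC

def wA : List Gen := [Gen.mono [15, 21, 0, 4, 1, 6, 14, 17, 5, 8, 11, 16, 2, 3, 20, 10, 12, 13, 18, 9, 19, 7, 22, 23] [2, 4, 12, 13, 3, 8, 5, 21, 9, 19, 15, 10, 16, 17, 6, 0, 11, 7, 18, 20, 14, 1, 22, 23] 0]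
def wAi : List Gen := [Gen.mono [2, 4, 12, 13, 3, 8, 5, 21, 9, 19, 15, 10, 16, 17, 6, 0, 11, 7, 18, 20, 14, 1, 22, 23] [15, 21, 0, 4, 1, 6, 14, 17, 5, 8, 11, 16, 2, 3, 20, 10, 12, 13, 18, 9, 19, 7, 22, 23] 0]
def wP : List Gen := [Gen.mono [18, 21, 19, 1, 22, 3, 10, 16, 4, 12, 0, 2, 11, 14, 8, 20, 6, 5, 13, 17, 9, 7, 15, 23] [10, 3, 11, 5, 8, 17, 16, 21, 14, 20, 6, 12, 9, 18, 13, 22, 7, 19, 0, 2, 15, 1, 4, 23] 0]
def wPi : List Gen := [Gen.mono [10, 3, 11, 5, 8, 17, 16, 21, 14, 20, 6, 12, 9, 18, 13, 22, 7, 19, 0, 2, 15, 1, 4, 23] [18, 21, 19, 1, 22, 3, 10, 16, 4, 12, 0, 2, 11, 14, 8, 20, 6, 5, 13, 17, 9, 7, 15, 23] 0]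
def wM : List Gen := [Gen.mono [15, 8, 16, 10, 9, 18, 20, 2, 7, 5, 17, 6, 21, 13, 1, 19, 12, 22, 3, 4, 14, 11, 0, 23] [22, 14, 7, 18, 19, 9, 11, 8, 1, 4, 3, 21, 16, 13, 20, 0, 2, 10, 5, 15, 6, 12, 17, 23] 0]
def wMi : List Gen := [Gen.mono [22, 14, 7, 18, 19, 9, 11, 8, 1, 4, 3, 21, 16, 13, 20, 0, 2, 10, 5, 15, 6, 12, 17, 23] [15, 8, 16, 10, 9, 18, 20, 2, 7, 5, 17, 6, 21, 13, 1, 19, 12, 22, 3, 4, 14, 11, 0, 23] 0]

theorem wA_ok : wA.all Gen.ok = true := by decide +kernel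
theorem wAi_ok : wAi.all Gen.ok = true := by decide +kernel
theorem wP_ok : wP.all Gen.ok = true := by decide +kernel
theorem wPi_ok : wPi.all Gen.ok = true := by decide +kernel
theorem wM_ok : wM.all Gen.ok = true := by decide +kernel
theorem wMi_ok : wMi.all Gen.ok = true := by decide +kernel

theorem patW_su_ok (w : List ℕ) : (patW (vals6 Lsu) w).all Gen.ok = true :=
  patW_ok (vals6_ok Lsu_ok) w

theorem wordCo0_wA : wordCo0 wA = wordCo0 (patW (vals6 Lsu) aW) :=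
  wordCo0_eq_of_inv wAi_ok wA_ok (patW_su_ok aW) (by decide +kernel) (by decide +kernel)

theorem wordCo0_wP : wordCo0 wP = wordCo0 (patW (vals6 Lsu) pW) :=
  wordCo0_eq_of_inv wPi_ok wP_ok (patW_su_ok pW) (by decide +kernel) (by decide +kernel)

theorem wordCo0_wM : wordCo0 wM = wordCo0 (wmul wD (patW (vals6 Lsu) mW)) :=
  wordCo0_eq_of_inv wMi_ok wM_ok (wmul_ok wD_ok (patW_su_ok mW)) (by decide +kernel) (by decide +kernel)

theorem wordCo0_wAi : wordCo0 wAi = (wordCo0 wA)⁻¹ := by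
  rw [eq_inv_iff_mul_eq_one, ← wordCo0_wmul]
  exact wordCo0_eq_oneF (wmul_ok wAi_ok wA_ok) (by decide +kernel)

theorem wordCo0_wPi : wordCo0 wPi = (wordCo0 wP)⁻¹ := by
  rw [eq_inv_iff_mul_eq_one, ← wordCo0_wmul]
  exact wordCo0_eq_oneF (wmul_ok wPi_ok wP_ok) (by decide +kernel)

theorem wordCo0_wMi : wordCo0 wMi = (wordCo0 wM)⁻¹ := by
  rw [eq_inv_iff_mul_eq_one, ← wordCo0_wmul]
  exact wordCo0_eq_oneF (wmul_ok wMi_ok wM_ok) (by decide +kernel)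

theorem aC_coe : ((aC : ↥C3) : Co0) = wordCo0 wA := by
  unfold aC
  rw [coe_wv_eq Lsu sC uC 1 gl_su_coe, wordCo0_wA]

/-- the word of `c` -/
def wC : List Gen := wmul wP (wmul wZ (wmul wM wZ))
/-- the word of `c⁻¹` -/
def wCi : List Gen := wmul wZ (wmul wMi (wmul wZ wPi))

theorem zC_inv : zC⁻¹ = zC := by
  rw [inv_eq_iff_mul_eq_one, ← sq]; exact z_sqC

theorem cC_coe : ((cC : ↥C3) : Co0) = wordCo0 wC := by
  unfold cC wC
  rw [Subgroup.coe_mul, Subgroup.coe_mul, Subgroup.coe_mul, Subgroup.coe_mul,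
    coe_wv_eq Lsu sC uC 1 gl_su_coe, coe_wv_eq Lsu sC uC 1 gl_su_coe, zC_coe, dC_coe,
    wordCo0_wmul, wordCo0_wmul, wordCo0_wmul, wordCo0_wP, wordCo0_wM, wordCo0_wmul]
  simp only [mul_assoc]

theorem cC_inv_coe : ((cC⁻¹ : ↥C3) : Co0) = wordCo0 wCi := by
  rw [Subgroup.coe_inv, cC_coe]
  unfold wC wCi
  rw [wordCo0_wmul, wordCo0_wmul, wordCo0_wmul, wordCo0_wmul, wordCo0_wmul, wordCo0_wmul,
    wordCo0_wPi, wordCo0_wMi, mul_inv_rev, mul_inv_rev, mul_inv_rev]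
  have hz : (wordCo0 wZ)⁻¹ = wordCo0 wZ := by
    rw [← zC_coe, ← Subgroup.coe_inv, zC_inv]
  rw [hz]
  simp only [mul_assoc]

/-- the words of the six letters `a a⁻¹ b b⁻¹ c c⁻¹` -/
def L6 : List (List Gen) := [wA, wAi, wS, wSi, wC, wCi]

theorem L6_ok : L6.all (fun w => w.all Gen.ok) = true := by decide +kernel

theorem gl_coe : ∀ i, ((gl aC sC cC i : ↥C3) : Co0) = wordCo0 (vals6 L6 i) := by
  intro i
  rcases i with _ | _ | _ | _ | _ | _ | i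
  · exact aC_coe
  · change ((aC⁻¹ : ↥C3) : Co0) = wordCo0 wAi
    rw [wordCo0_wAi, Subgroup.coe_inv, aC_coe]
  · exact sC_coe
  · change ((sC⁻¹ : ↥C3) : Co0) = wordCo0 wSi
    rw [wordCo0_wSi, Subgroup.coe_inv, sC_coe]
  · exact cC_coe
  · exact cC_inv_coe
  · rfl

/-- a relator in `a`, `b`, `c` checked in `Co0` -/
theorem wv_eq_one_of_chk {w : List ℕ} (h : relOK L6 w = true) : wv aC sC cC w = 1 :=
  wv_eq_one_of_relOK L6 aC sC cC L6_ok gl_coe h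

end Cfsg.Agent.Lib.H27.Co3M
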