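/-
helper27 library (S2045): relators in `a`, `b` only are checked on the 24 points of `M23` (first for `s`, `u`, then for
`a = s⁻¹u⁻¹u⁻¹s⁻¹usu⁻¹s⁻¹`, `b = s` by substitution).
-/
import Cfsg.Agent.Lib.H27.Co3M.Side
import Cfsg.Agent.Lib.H27.Co3M.Abs
import Cfsg.Agent.Lib.H27.Co3M.Letters

set_option autoImplicit false

namespace Cfsg.Agent.Lib.H27.Co3M

open Cfsg Cfsg.Agent.Lib.H28 Cfsg.Agent.Lib.H27.Eng Cfsg.Agent.Lib.H27.Co3Out
  Cfsg.Agent.Lib.H27.Co3GenData Cfsg.Agent.Lib.H27.OutM Cfsg.Agent.Lib.H27.M24NF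

/-- translation of the letters `a a⁻¹ b b⁻¹` to the letters `S S⁻¹ U U⁻¹` of `M24` -/
def trL : ℕ → ℕ
  | 0 => 0
  | 1 => 1
  | 2 => 3
  | 3 => 4
  | _ => 5

/-- translation of a word -/
def trW (w : List ℕ) : List ℕ := w.map trL

/-- `s` in `M23` -/
noncomputable def s23 : ↥Spor.M23 := ⟨wordPerm sw, sw_mem23⟩
/-- `u` in `M23` -/
noncomputable def u23 : ↥Spor.M23 := ⟨wordPerm uw, uw_mem23⟩

theorem phi_s23 : phi s23 = sC := Subtype.ext (by rw [phi_coe, sC_coe]; exact pCo0_s)
theorem phi_u23 : phi u23 = uC := Subtype.ext (by rw [phi_coe, uC_coe]; exact pCo0_u)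

theorem genPerm_trL (x : ℕ) (hx : x < 4) :
    genPerm (trL x) = ((gl s23 u23 1 x : ↥Spor.M23) : Equiv.Perm GolayPt) := by
  interval_cases x
  · change genPerm 0 = wordPerm [0]
    rw [wordPerm_cons, wordPerm_nil, mul_one]
  · change genPerm 1 = ((s23⁻¹ : ↥Spor.M23) : Equiv.Perm GolayPt)
    rw [Subgroup.coe_inv]
    change permS⁻¹ = (wordPerm [0])⁻¹
    rw [wordPerm_cons, wordPerm_nil, mul_one]
    rfl
  · change genPerm 3 = wordPerm [3]
    rw [wordPerm_cons, wordPerm_nil, mul_one]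
  · change genPerm 4 = ((u23⁻¹ : ↥Spor.M23) : Equiv.Perm GolayPt)
    rw [Subgroup.coe_inv]
    change cubeTwist⁻¹ = (wordPerm [3])⁻¹
    rw [wordPerm_cons, wordPerm_nil, mul_one]
    rfl

theorem wordPerm_trW {w : List ℕ} (h : abOnly w = true) :
    wordPerm (trW w) = ((wv s23 u23 1 w : ↥Spor.M23) : Equiv.Perm GolayPt) := by
  induction w with
  | nil => rfl
  | cons x w ih =>
    unfold abOnly at h ih
    rw [List.all_cons, Bool.and_eq_true, decide_eq_true_eq] at h
    change wordPerm (trL x :: trW w) = _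
    rw [wordPerm_cons, wv_cons, Subgroup.coe_mul, ih h.2, genPerm_trL x h.1]

theorem wv_congr_ab {Δ : Type*} [Group Δ] (ga gb gc gc' : Δ) {w : List ℕ} (h : abOnly w = true) :
    wv ga gb gc w = wv ga gb gc' w := by
  induction w with
  | nil => rfl
  | cons x w ih =>
    unfold abOnly at h ih
    rw [List.all_cons, Bool.and_eq_true, decide_eq_true_eq] at h
    rw [wv_cons, wv_cons, ih h.2]
    congr 1
    have hx := h.1
    interval_cases x <;> rfl

/-- the check of a relator in `a`, `b` -/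
def abRelOK (w : List ℕ) : Bool := abOnly w && eqW (trW w) []

theorem wv_eq_one_of_abRelOK (cC : ↥C3) {w : List ℕ} (h : abRelOK w = true) : wv sC uC cC w = 1 := by
  unfold abRelOK at h
  rw [Bool.and_eq_true] at h
  obtain ⟨hab, he⟩ := h
  have h1 : wv s23 u23 1 w = 1 := by
    apply Subtype.ext
    rw [← wordPerm_trW hab, wordPerm_eq_of_eqW he, wordPerm_nil]
    rfl
  rw [wv_congr_ab sC uC cC (phi 1) hab, ← phi_s23, ← phi_u23, ← map_wv, h1, map_one]

/-- substitution of the letters `a a⁻¹ b b⁻¹` by words in `s s⁻¹ u u⁻¹` -/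
def subL : ℕ → List ℕ
  | 0 => aW
  | 1 => invW aW
  | 2 => [0]
  | 3 => [1]
  | _ => []

/-- substitution in a word -/
def subW : List ℕ → List ℕ
  | [] => []
  | x :: w => subL x ++ subW w

theorem abOnly_append {u v : List ℕ} (hu : abOnly u = true) (hv : abOnly v = true) :
    abOnly (u ++ v) = true := by
  unfold abOnly at *
  rw [List.all_append, hu, hv]; rfl

theorem abOnly_subL (x : ℕ) : abOnly (subL x) = true := by
  rcases x with _ | _ | _ | _ | x
  · decide
  · decide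
  · decide
  · decide
  · rfl

theorem abOnly_subW (w : List ℕ) : abOnly (subW w) = true := by
  induction w with
  | nil => rfl
  | cons x w ih => exact abOnly_append (abOnly_subL x) ih

theorem gl_zero {Δ : Type*} [Group Δ] (x y z : Δ) : gl x y z 0 = x := rfl
theorem gl_one {Δ : Type*} [Group Δ] (x y z : Δ) : gl x y z 1 = x⁻¹ := rfl
theorem gl_two {Δ : Type*} [Group Δ] (x y z : Δ) : gl x y z 2 = y := rfl
theorem gl_three {Δ : Type*} [Group Δ] (x y z : Δ) : gl x y z 3 = y⁻¹ := rfl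

theorem subL_zero : subL 0 = aW := rfl
theorem subL_one : subL 1 = invW aW := rfl
theorem subL_two : subL 2 = [0] := rfl
theorem subL_three : subL 3 = [1] := rfl

theorem gl_eq_subL (cC' : ↥C3) (x : ℕ) (hx : x < 4) :
    gl aC sC cC' x = wv sC uC (1 : ↥C3) (subL x) := by
  interval_cases x
  · rw [gl_zero, subL_zero, aC]
  · rw [gl_one, subL_one, wv_invW, aC]
  · rw [gl_two, subL_two, wv_cons, wv_nil, mul_one, gl_zero]
  · rw [gl_three, subL_three, wv_cons, wv_nil, mul_one, gl_one]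

theorem wv_eq_subW (cC' : ↥C3) {w : List ℕ} (h : abOnly w = true) :
    wv aC sC cC' w = wv sC uC (1 : ↥C3) (subW w) := by
  induction w with
  | nil =>
    change wv aC sC cC' [] = wv sC uC 1 []
    rw [wv_nil, wv_nil]
  | cons x w ih =>
    unfold abOnly at h ih
    rw [List.all_cons, Bool.and_eq_true, decide_eq_true_eq] at h
    change _ = wv sC uC 1 (subL x ++ subW w)
    rw [wv_cons, wv_append, ih h.2, gl_eq_subL cC' x h.1]

/-- the check of a relator in `a`, `b` -/
def abRelOK2 (w : List ℕ) : Bool := abOnly w && eqW (trW (subW w)) []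

theorem wv_eq_one_of_abRelOK2 (cC' : ↥C3) {w : List ℕ} (h : abRelOK2 w = true) :
    wv aC sC cC' w = 1 := by
  unfold abRelOK2 at h
  rw [Bool.and_eq_true] at h
  obtain ⟨hab, he⟩ := h
  rw [wv_eq_subW cC' hab]
  apply wv_eq_one_of_abRelOK
  unfold abRelOK
  rw [Bool.and_eq_true]
  exact ⟨abOnly_subW w, he⟩

end Cfsg.Agent.Lib.H27.Co3M
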