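/-
helper27 library (S2045): additive forms of the modular twists (after helper16's `G24M.Glue1`, copied so that the
certificate of `Co3` does not depend on the certificates of `G2(4)`).
-/
import Cfsg.Agent.Lib.H16.G24M.ModTw

set_option autoImplicit false

namespace Cfsg.Agent.Lib.H27.Co3M

section additive

open Cfsg.Agent.Lib.H16.G24M (ntw ntw_cons ntw_mem_closure)

/-- the additive form of `ntw` -/
def nsum {M : Type*} [AddCommGroup M] : List M → List ℕ → M
  | [], _ => 0
  | _, [] => 0
  | a :: as, e :: t => (e : ℤ) • a + nsum as t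

theorem ofMul_ntw {A : Type*} [CommGroup A] (ζs : List A) (t : List ℕ) :
    Additive.ofMul (ntw ζs t) = nsum (ζs.map Additive.ofMul) t := by
  induction ζs generalizing t with
  | nil => simp [ntw, nsum]
  | cons ζ ζs ih =>
    cases t with
    | nil => simp [ntw, nsum]
    | cons e t =>
      rw [ntw_cons, List.map_cons]
      change _ = (e : ℤ) • Additive.ofMul ζ + nsum (ζs.map Additive.ofMul) t
      rw [← ih, ofMul_mul, ofMul_pow, natCast_zsmul]

theorem nsum_eq_zero {A : Type*} [CommGroup A] (ζs : List A) (t : List ℕ) (h : ntw ζs t = 1) :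
    nsum (ζs.map Additive.ofMul) t = 0 := by
  rw [← ofMul_ntw, h]; rfl

theorem zsmul_ofMul_eq_zero {A : Type*} [CommGroup A] (z : A) (n : ℕ) (h : z ^ n = 1) :
    (n : ℤ) • Additive.ofMul z = 0 := by
  rw [natCast_zsmul, ← ofMul_pow, h]; rfl

theorem ntw_eq_one_of_all_one {A : Type*} [CommGroup A] (ζs : List A) (h : ∀ a ∈ ζs, a = 1)
    (t : List ℕ) : ntw ζs t = 1 := by
  have h1 := ntw_mem_closure ζs t
  have h2 : Subgroup.closure {a : A | a ∈ ζs} ≤ ⊥ := by
    rw [Subgroup.closure_le]
    intro a ha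
    rw [h a ha]
    exact Subgroup.mem_bot.mpr rfl
  exact Subgroup.mem_bot.mp (h2 h1)

end additive

end Cfsg.Agent.Lib.H27.Co3M
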