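import Cfsg.Agent.Lib.H12.J3M.GlueBase
import Cfsg.Agent.Lib.H27.Co3M.GlueTools
import Cfsg.Agent.Lib.H27.Co3M.C.Run
import Cfsg.Agent.Lib.H27.Co3M.C.Lists
import Cfsg.Agent.Lib.H27.Co3M.C.Alg

set_option autoImplicit false
set_option maxRecDepth 100000

/-!
# The monomial certificate of `Co3 = ⟨a, b, c⟩` over `M23 = ⟨a, b⟩` (helper27; generated by tools/co3m_h27/gen_glue3.py,
after helper16's `G24M.Glue1`/`Glue2`)

`Setting3 ga gb gc A`: the exact relators hold for `ga gb gc`, all other relators have values in the central subgroup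
`A` of exponent dividing `30`, which meets `⟨ga, gb⟩` trivially, and `ga gb gc` generate.  Conclusion: `⟨ga, gb⟩` has at
most `48600` cosets.
-/

namespace Cfsg.Agent.Lib.H27.Co3M

open Cfsg.Agent.Lib.H17.CosetCert (WT act)
open Cfsg.Agent.Lib.H17.MonoCert
open Cfsg.Agent.Lib.H16.G24M (nadd neq ntw ntw_ok ntw_replicate_zero)
open Cfsg.Agent.Lib.H12.J3M (gl3 wv3 act_inv commGroupOfCentral smulComm_of_central free_of_disj)

section

variable {Γ : Type*} [Group Γ] (ga gb gc : Γ)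

/-- the hypotheses on the group -/
structure Setting3 (A : Subgroup Γ) : Prop where
  central : A ≤ Subgroup.center Γ
  disj : ∀ x ∈ Subgroup.closure {ga, gb}, x ∈ A → x = 1
  exact : ∀ w ∈ C.exactL, wv3 ga gb gc w = 1
  rel : ∀ w ∈ C.symL ++ C.cenL, wv3 ga gb gc w ∈ A
  gen : Subgroup.closure {ga, gb, gc} = ⊤
  tors : ∀ z ∈ A, z ^ 30 = 1

theorem wv3_pair3 : ∀ w ∈ C.pairL, wv3 ga gb gc w = 1 := by
  intro w hw
  simp only [C.pairL, List.mem_cons, List.not_mem_nil, or_false] at hw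
  rcases hw with rfl | rfl | rfl | rfl | rfl | rfl <;> simp [wv3, gl3]

variable {ga gb gc}

theorem Setting3.rel_all {A : Subgroup Γ} (S : Setting3 ga gb gc A) :
    ∀ w ∈ C.relL, wv3 ga gb gc w ∈ A := by
  intro w hw
  rcases C.rel_cases w hw with h | h
  · rcases List.mem_append.mp h with h1 | h1
    · rw [S.exact w h1]; exact one_mem _
    · rw [wv3_pair3 ga gb gc w h1]; exact one_mem _
  · exact S.rel w h

end

section main

variable {Γ : Type*} [Group Γ] {ga gb gc : Γ} {A : Subgroup Γ}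

open Classical in
/-- the inverse of the value of a word, as an element of `A` (`1` if the value is not in `A`) -/
noncomputable def ρA3 (ga gb gc : Γ) (A : Subgroup Γ) (w : List ℕ) : A :=
  if h : wv3 ga gb gc w ∈ A then ⟨(wv3 ga gb gc w)⁻¹, A.inv_mem h⟩ else 1

theorem ρA3_coe (w : List ℕ) (h : wv3 ga gb gc w ∈ A) :
    ((ρA3 ga gb gc A w : A) : Γ) = (wv3 ga gb gc w)⁻¹ := by
  unfold ρA3
  rw [dif_pos h]

theorem gens_top3 (S : Setting3 ga gb gc A) :
    Subgroup.closure {g : Γ | ∃ x < 6, g = (gl3 ga gb gc x)⁻¹} = ⊤ := by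
  rw [eq_top_iff, ← S.gen, Subgroup.closure_le]
  intro g hg
  simp only [Set.mem_insert_iff, Set.mem_singleton_iff] at hg
  apply Subgroup.subset_closure
  rcases hg with rfl | rfl | rfl
  · exact ⟨1, by norm_num, by simp [gl3]⟩
  · exact ⟨3, by norm_num, by simp [gl3]⟩
  · exact ⟨5, by norm_num, by simp [gl3]⟩

theorem letters_inv3 : ∀ x < 6, ∃ y < 6, (gl3 ga gb gc y)⁻¹ = ((gl3 ga gb gc x)⁻¹)⁻¹ := by
  intro x hx
  interval_cases x
  · exact ⟨1, by norm_num, by simp [gl3]⟩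
  · exact ⟨0, by norm_num, by simp [gl3]⟩
  · exact ⟨3, by norm_num, by simp [gl3]⟩
  · exact ⟨2, by norm_num, by simp [gl3]⟩
  · exact ⟨5, by norm_num, by simp [gl3]⟩
  · exact ⟨4, by norm_num, by simp [gl3]⟩

/-- the list of the symbol values -/
noncomputable def ζs3 (ga gb gc : Γ) (A : Subgroup Γ) : List A := C.symL.map (ρA3 ga gb gc A)

theorem wordsOK3 (S : Setting3 ga gb gc A) :
    letI := commGroupOfCentral A S.central
    haveI := smulComm_of_central A (Subgroup.closure {ga, gb}) S.central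
    WordsOK C.Ev (ntw (ζs3 ga gb gc A)) (fun x => (gl3 ga gb gc x)⁻¹)
      (((1 : Γ) : Γ ⧸ Subgroup.closure {ga, gb})) C.words 861 := by
  let _ := commGroupOfCentral A S.central
  intro w wd r hget
  have hm := WT.get_mem C.words w (wd, r) hget
  obtain ⟨h1, h2⟩ := C.words_mem _ hm
  refine ⟨fun hr => ?_, fun hr hw => ?_, fun hr => ?_⟩
  · have hA := S.rel_all wd (h1 hr)
    refine ⟨⟨(wv3 ga gb gc wd)⁻¹, A.inv_mem hA⟩, fun q => ?_⟩
    rw [act_inv]
    rfl
  · subst hr
    have hs := C.seed_mem w hw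
    unfold C.seedChk at hs
    rw [hget] at hs
    simp only [decide_eq_true_eq] at hs
    intro q
    rw [act_inv]
    rcases C.seed_cases _ hs with ⟨he, hmem⟩ | hz
    · simp only [] at he hmem
      have hv : wv3 ga gb gc wd = 1 := by
        rcases List.mem_append.mp hmem with h | h
        · exact S.exact wd h
        · exact wv3_pair3 ga gb gc wd h
      change (wv3 ga gb gc wd)⁻¹ • q = _
      rw [hv, he, ntw_replicate_zero, inv_one, one_smul, one_smul]
    · simp only [C.symL, C.unitL, List.zip_cons_cons, List.zip_nil_right, List.mem_cons,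
        Prod.mk.injEq, List.not_mem_nil, or_false] at hz
      have key : ∀ wd' (hwd : wd' ∈ C.symL ++ C.cenL) (e : List ℕ),
          ntw (ζs3 ga gb gc A) e = ρA3 ga gb gc A wd' → wd = wd' → C.Ev w = e →
          ((List.map (gl3 ga gb gc) wd).prod)⁻¹ • q = ntw (ζs3 ga gb gc A) (C.Ev w) • q := by
        intro wd' hwd e he hw1 hw2
        rw [hw2, he, hw1]
        change _ = ((ρA3 ga gb gc A wd' : A) : Γ) • q
        rw [ρA3_coe wd' (S.rel wd' hwd)]
        rfl
      rcases hz with ⟨a, b⟩ | ⟨a, b⟩ | ⟨a, b⟩ | ⟨a, b⟩ | ⟨a, b⟩ | ⟨a, b⟩ | ⟨a, b⟩ | ⟨a, b⟩ | ⟨a, b⟩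
      · exact key _ (by decide) _ (by simp [ζs3, C.symL, ntw]) a b
      · exact key _ (by decide) _ (by simp [ζs3, C.symL, ntw]) a b
      · exact key _ (by decide) _ (by simp [ζs3, C.symL, ntw]) a b
      · exact key _ (by decide) _ (by simp [ζs3, C.symL, ntw]) a b
      · exact key _ (by decide) _ (by simp [ζs3, C.symL, ntw]) a b
      · exact key _ (by decide) _ (by simp [ζs3, C.symL, ntw]) a b
      · exact key _ (by decide) _ (by simp [ζs3, C.symL, ntw]) a b
      · exact key _ (by decide) _ (by simp [ζs3, C.symL, ntw]) a b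
      · exact key _ (by decide) _ (by simp [ζs3, C.symL, ntw]) a b
  · have hsub := h2 hr
    rw [act_inv]
    have hmem : (List.map (gl3 ga gb gc) wd).prod ∈ Subgroup.closure {ga, gb} := by
      simp only [C.subL, List.mem_cons, List.not_mem_nil, or_false] at hsub
      rcases hsub with rfl | rfl
      · simp only [List.map_cons, List.map_nil, List.prod_cons, List.prod_nil, mul_one, gl3]
        exact Subgroup.subset_closure (by simp)
      · simp only [List.map_cons, List.map_nil, List.prod_cons, List.prod_nil, mul_one, gl3]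
        exact Subgroup.subset_closure (by simp)
    rw [MulAction.Quotient.smul_mk, QuotientGroup.eq]
    simpa using hmem

end main

section final

variable {Γ : Type*} [Group Γ] {ga gb gc : Γ} {A : Subgroup Γ}

/-- **Main theorem of the certificate.** -/
theorem mono_main3 (S : Setting3 ga gb gc A) :
    Finite (Γ ⧸ Subgroup.closure {ga, gb}) ∧ Nat.card (Γ ⧸ Subgroup.closure {ga, gb}) ≤ 48600 := by
  let _ := commGroupOfCentral A S.central
  have := smulComm_of_central A (Subgroup.closure {ga, gb}) S.central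
  set Q := Γ ⧸ Subgroup.closure {ga, gb} with hQ
  set q0 : Q := ((1 : Γ) : Q) with hq0
  set tw : List ℕ → A := ntw (ζs3 ga gb gc A) with htw_def
  set γ : ℕ → Γ := fun x => (gl3 ga gb gc x)⁻¹ with hγ
  have hAN : ∀ z : A, z ^ 30 = 1 := by
    intro z
    apply Subtype.ext
    rw [Subgroup.coe_pow]
    exact S.tors _ z.2
  have htw : TwOK (nadd C.NN) (List.replicate 9 0) neq tw :=
    ntw_ok C.NN _ (fun ζ _ => hAN ζ) 9
  have hfree : ∀ (α β : A) (q : Q), α • q = β • q → α = β :=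
    free_of_disj A (Subgroup.closure {ga, gb}) S.central S.disj
  have hw := wordsOK3 S
  have hI := C.run tw γ hfree htw q0 hw
  obtain ⟨c, hc0, hwords, hcov⟩ := covered C.F C.Ev 6 1048576 tw γ q0 C.words 291600 48600 896
    hI C.rows C.rows_ok C.rows_length (gens_top3 S) letters_inv3
  -- the relations
  have hrel : ∀ p ∈ C.relPairs, tw p.2.2 = 1 := by
    intro p hp
    have hchk := C.rel_chk p hp
    unfold C.relChk at hchk
    rcases h1 : WT.get C.words p.1 with _ | ⟨wd1, r1⟩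
    · rw [h1] at hchk; exact absurd hchk (by simp)
    · rcases h2 : WT.get C.words p.2.1 with _ | ⟨wd2, r2⟩
      · rw [h1, h2] at hchk
        cases r1 <;> exact absurd hchk (by simp)
      · rw [h1, h2] at hchk
        cases r1 with
        | false => exact absurd hchk (by simp)
        | true =>
          cases r2 with
          | false => exact absurd hchk (by simp)
          | true =>
            simp only [Bool.and_eq_true, decide_eq_true_eq] at hchk
            obtain ⟨⟨⟨hwd, hev⟩, hlt1⟩, hlt2⟩ := hchk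
            subst hwd
            have e1 := hwords p.1 hlt1 wd1 h1 q0
            have e2 := hwords p.2.1 hlt2 wd1 h2 q0
            have e3 : tw (C.Ev p.1) = tw (C.Ev p.2.1) := hfree _ _ q0 (e1.symm.trans e2)
            rw [hev, htw.add] at e3
            exact (mul_eq_left.mp e3.symm)
  have hR : ∀ v ∈ C.relPairs.map (fun p => p.2.2),
      nsum ((ζs3 ga gb gc A).map Additive.ofMul) v = 0 := by
    intro v hv
    obtain ⟨p, hp, rfl⟩ := List.mem_map.mp hv
    exact nsum_eq_zero _ _ (hrel p hp)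
  -- every symbol is trivial
  have hζ : ζs3 ga gb gc A = [ρA3 ga gb gc A [4, 1, 1, 3, 5, 2, 2, 1, 3, 3, 4, 1, 1, 2, 5, 2, 2, 1, 3, 3],
      ρA3 ga gb gc A [4, 1, 1, 3, 5, 2, 2, 0, 3, 3, 4, 0, 0, 2, 5, 2, 2, 1, 3, 3],
      ρA3 ga gb gc A [4, 3, 3, 3, 1, 3, 3, 0, 0, 3, 3, 5, 0, 2, 2, 1, 2, 0, 2, 2, 1, 3],
      ρA3 ga gb gc A [5, 1, 2, 4, 1, 5, 1, 3, 4, 1, 1, 2, 2, 0, 3, 3, 0, 2, 2, 0, 2, 0],
      ρA3 ga gb gc A [5, 3, 3, 1, 4, 0, 0, 5, 2, 4, 3, 0, 2, 2, 1, 3, 1, 1, 2, 1, 3, 1],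
      ρA3 ga gb gc A [4, 0, 4, 3, 3, 4, 1, 3, 3, 5, 3, 0, 3, 3, 0, 2, 1, 1, 2, 1, 2, 2],
      ρA3 ga gb gc A [4, 3, 1, 2, 2, 0, 3, 5, 2, 1, 3, 3, 1, 3, 1, 2, 1, 2, 1, 3, 3, 0, 2],
      ρA3 ga gb gc A [5, 3, 1, 3, 4, 1, 1, 5, 1, 3, 5, 1, 2, 1, 1, 3, 3, 0, 3, 1, 2, 0, 2, 1],
      ρA3 ga gb gc A [5, 5, 3, 3, 0, 0, 0, 3, 1, 5, 0, 5, 3, 0, 2, 2, 2, 1, 1, 2, 0, 0, 3]] := rfl
  rw [hζ] at hR
  have hn : ∀ z : A, (30 : ℤ) • Additive.ofMul z = 0 := fun z =>
    zsmul_ofMul_eq_zero z 30 (hAN z)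
  obtain ⟨k0, k1, k2, k3, k4, k5, k6, k7, k8⟩ := C.rel_alg_add _ _ _ _ _ _ _ _ _ (hn _) (hn _) (hn _) (hn _) (hn _) (hn _) (hn _) (hn _) (hn _)
    (hR [0, 0, 2, 0, 29, 0, 0, 0, 0] (by decide)) (hR [0, 0, 0, 29, 29, 0, 1, 0, 0] (by decide)) (hR [0, 0, 27, 0, 0, 0, 1, 0, 0] (by decide)) (hR [0, 0, 1, 2, 29, 0, 1, 0, 0] (by decide)) (hR [1, 0, 29, 25, 29, 1, 1, 0, 3] (by decide)) (hR [1, 29, 27, 1, 0, 2, 27, 28, 2] (by decide)) (hR [29, 0, 27, 5, 29, 1, 28, 29, 1] (by decide)) (hR [27, 1, 0, 3, 29, 4, 2, 2, 1] (by decide)) (hR [28, 29, 24, 28, 1, 28, 28, 0, 29] (by decide)) (hR [27, 29, 28, 1, 29, 0, 23, 28, 1] (by decide)) (hR [28, 24, 2, 1, 2, 29, 2, 0, 5] (by decide))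
  have hall : ∀ a ∈ ζs3 ga gb gc A, a = 1 := by
    intro a ha
    rw [hζ] at ha
    simp only [List.mem_cons, List.not_mem_nil, or_false] at ha
    rcases ha with rfl | rfl | rfl | rfl | rfl | rfl | rfl | rfl | rfl
    · exact Additive.ofMul.injective k0
    · exact Additive.ofMul.injective k1
    · exact Additive.ofMul.injective k2
    · exact Additive.ofMul.injective k3
    · exact Additive.ofMul.injective k4
    · exact Additive.ofMul.injective k5
    · exact Additive.ofMul.injective k6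
    · exact Additive.ofMul.injective k7
    · exact Additive.ofMul.injective k8
  have htriv : ∀ α ∈ Subgroup.closure (Set.range tw), α = 1 := by
    intro α hα
    have hle : Subgroup.closure (Set.range tw) ≤ ⊥ := by
      rw [Subgroup.closure_le]
      rintro _ ⟨t, rfl⟩
      exact Subgroup.mem_bot.mpr (ntw_eq_one_of_all_one _ hall t)
    exact Subgroup.mem_bot.mp (hle hα)
  let f : Fin 48600 → Q := fun p => c p
  have hf : Function.Surjective f := by
    intro q
    obtain ⟨i, hi, α, hα, rfl⟩ := hcov q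
    refine ⟨⟨i, hi⟩, ?_⟩
    rw [htriv α hα, one_smul]
  refine ⟨Finite.of_surjective f hf, ?_⟩
  have := Nat.card_le_card_of_surjective f hf
  rwa [Nat.card_fin] at this

end final

end Cfsg.Agent.Lib.H27.Co3M
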