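/-
helper27 library (S2045): the certificate `mono_main3` in the form used by the abstract argument.
-/
import Cfsg.Agent.Lib.H27.Co3M.Glue
import Cfsg.Agent.Lib.H27.Co3M.Abs

set_option autoImplicit false

namespace Cfsg.Agent.Lib.H27.Co3M

open Cfsg.Agent.Lib.H12.J3M (gl3 wv3)

theorem gl_eq_gl3 {Γ : Type*} [Group Γ] (a b c : Γ) (x : ℕ) : gl a b c x = gl3 a b c x := by
  rcases x with _ | _ | _ | _ | _ | _ | x <;> rfl

theorem wv_eq_wv3 {Γ : Type*} [Group Γ] (a b c : Γ) (w : List ℕ) : wv a b c w = wv3 a b c w := by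
  have h : gl a b c = gl3 a b c := funext (gl_eq_gl3 a b c)
  unfold wv wv3
  rw [h]

/-- the certificate: at most `48600` cosets -/
theorem bound3 : Bound C.exactL (C.symL ++ C.cenL) 30 48600 := by
  intro Γ _ ga gb gc A S
  exact mono_main3 (ga := ga) (gb := gb) (gc := gc) (A := A)
    { central := S.central
      disj := S.disj
      exact := fun w hw => by rw [← wv_eq_wv3]; exact S.exact w hw
      rel := fun w hw => by rw [← wv_eq_wv3]; exact S.rel w hw
      gen := S.gen
      tors := S.tors }

end Cfsg.Agent.Lib.H27.Co3M
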