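/-
helper27 library (S2045): cheap boolean membership tests for lists of words (the quadratic `decide` of list
membership costs tens of GB in the kernel for 900 words), and the derived propositional forms.  The functions are
written with explicit recursors so that the kernel evaluates them quickly.
-/
import Cfsg.Agent.Lib.H16.G24M.ModTw

set_option autoImplicit false

namespace Cfsg.Agent.Lib.H27.Co3M

/-- boolean equality of words -/
noncomputable def lbeq : List ℕ → List ℕ → Bool :=
  List.rec (motive := fun _ => List ℕ → Bool)
    (fun v => List.rec (motive := fun _ => Bool) true (fun _ _ _ => false) v)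
    (fun a _ ih v => List.rec (motive := fun _ => Bool) false
      (fun b v' _ => cond (Nat.beq a b) (ih v') false) v)

theorem lbeq_nil_nil : lbeq [] [] = true := rfl
theorem lbeq_nil_cons (b : ℕ) (v : List ℕ) : lbeq [] (b :: v) = false := rfl
theorem lbeq_cons_nil (a : ℕ) (u : List ℕ) : lbeq (a :: u) [] = false := rfl
theorem lbeq_cons_cons (a b : ℕ) (u v : List ℕ) :
    lbeq (a :: u) (b :: v) = cond (Nat.beq a b) (lbeq u v) false := rfl

theorem lbeq_iff (u v : List ℕ) : lbeq u v = true ↔ u = v := by
  induction u generalizing v with
  | nil =>
    cases v with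
    | nil => simp [lbeq_nil_nil]
    | cons b v => simp [lbeq_nil_cons]
  | cons a u ih =>
    cases v with
    | nil => simp [lbeq_cons_nil]
    | cons b v =>
      rw [lbeq_cons_cons, List.cons.injEq, ← ih]
      by_cases h : a = b
      · subst h
        simp [Nat.beq_refl]
      · have : Nat.beq a b = false := by
          cases hb : Nat.beq a b with
          | false => rfl
          | true => exact absurd (Nat.eq_of_beq_eq_true hb) h
        simp [this, h]

/-- boolean membership of a word in a list of words -/
noncomputable def lmem (w : List ℕ) : List (List ℕ) → Bool :=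
  List.rec (motive := fun _ => Bool) false (fun v _ ih => cond (lbeq w v) true ih)

theorem lmem_nil (w : List ℕ) : lmem w [] = false := rfl
theorem lmem_cons (w v : List ℕ) (l : List (List ℕ)) :
    lmem w (v :: l) = cond (lbeq w v) true (lmem w l) := rfl

theorem lmem_iff (w : List ℕ) (l : List (List ℕ)) : lmem w l = true ↔ w ∈ l := by
  induction l with
  | nil => simp [lmem_nil]
  | cons v l ih =>
    rw [lmem_cons, List.mem_cons, ← ih, ← lbeq_iff]
    cases lbeq w v <;> simp

/-- boolean membership of a pair of words in a list of pairs -/
noncomputable def pmem (p : List ℕ × List ℕ) : List (List ℕ × List ℕ) → Bool :=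
  List.rec (motive := fun _ => Bool) false
    (fun q _ ih => cond (cond (lbeq p.1 q.1) (lbeq p.2 q.2) false) true ih)

theorem pmem_nil (p : List ℕ × List ℕ) : pmem p [] = false := rfl
theorem pmem_cons (p q : List ℕ × List ℕ) (l : List (List ℕ × List ℕ)) :
    pmem p (q :: l) = cond (cond (lbeq p.1 q.1) (lbeq p.2 q.2) false) true (pmem p l) := rfl

theorem pmem_iff (p : List ℕ × List ℕ) (l : List (List ℕ × List ℕ)) : pmem p l = true ↔ p ∈ l := by
  induction l with
  | nil => simp [pmem_nil]
  | cons q l ih =>
    rw [pmem_cons, List.mem_cons, ← ih]
    have e : p = q ↔ (lbeq p.1 q.1 = true ∧ lbeq p.2 q.2 = true) := by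
      rw [lbeq_iff, lbeq_iff]
      exact Prod.ext_iff
    rw [e]
    cases lbeq p.1 q.1 <;> cases lbeq p.2 q.2 <;> simp

/-- `all` with an explicit recursor -/
noncomputable def lall {α : Type} (f : α → Bool) : List α → Bool :=
  List.rec (motive := fun _ => Bool) true (fun x _ ih => cond (f x) ih false)

theorem lall_nil {α : Type} (f : α → Bool) : lall f [] = true := rfl
theorem lall_cons {α : Type} (f : α → Bool) (x : α) (l : List α) :
    lall f (x :: l) = cond (f x) (lall f l) false := rfl

theorem forall_of_all {α : Type} {l : List α} {f : α → Bool} (h : lall f l = true) :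
    ∀ x ∈ l, f x = true := by
  induction l with
  | nil => intro x hx; cases hx
  | cons y l ih =>
    rw [lall_cons] at h
    intro x hx
    rcases List.mem_cons.1 hx with rfl | hx
    · cases hf : f x with
      | true => rfl
      | false => rw [hf] at h; exact absurd h (by simp)
    · apply ih _ x hx
      cases hf : f y with
      | true => rw [hf] at h; exact h
      | false => rw [hf] at h; exact absurd h (by simp)

/-- `f 0 && … && f (n - 1)` with an explicit recursor -/
noncomputable def nall (f : ℕ → Bool) : ℕ → Bool :=
  Nat.rec (motive := fun _ => Bool) true (fun n ih => cond (f n) ih false)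

theorem nall_succ (f : ℕ → Bool) (n : ℕ) : nall f (n + 1) = cond (f n) (nall f n) false := rfl

theorem forall_lt_of_all {n : ℕ} {f : ℕ → Bool} (h : nall f n = true) :
    ∀ w < n, f w = true := by
  induction n with
  | zero => intro w hw; omega
  | succ n ih =>
    rw [nall_succ] at h
    intro w hw
    cases hf : f n with
    | false => rw [hf] at h; exact absurd h (by simp)
    | true =>
      rw [hf] at h
      rcases Nat.lt_succ_iff_lt_or_eq.1 hw with h1 | rfl
      · exact ih h w h1
      · exact hf

end Cfsg.Agent.Lib.H27.Co3M
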