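/-
helper27 library (S2045): `C3 ≃ Co3` is generated by `a`, `b = s`, `c`: the old generators `u`, `d`, `z` are words in
`a`, `b`, `c`.
-/
import Cfsg.Agent.Lib.H27.Co3M.Letters
import Cfsg.Agent.Lib.H27.WordEq

set_option autoImplicit false
set_option maxRecDepth 100000

namespace Cfsg.Agent.Lib.H27.Co3M

open Cfsg Cfsg.Agent.Lib.H27.Eng Cfsg.Agent.Lib.H27.Co3Out Cfsg.Agent.Lib.H27.Co3GenData Subgroup

/-- `u` as a word in `a`, `b` -/
def uW : List ℕ := [1, 3, 1, 3, 3, 1, 3, 0, 0, 0, 3, 0, 3, 1, 3, 1]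
/-- `d` as a word in `a`, `b` -/
def dW : List ℕ := [2, 0, 3, 1, 1, 1, 2, 2, 0, 3, 0, 3, 0]
/-- `z` as a word in `a`, `b`, `c` -/
def zW : List ℕ := [2, 1, 1, 1, 4, 1, 4, 0, 4, 0, 0, 2, 2, 1, 3, 3, 0, 3, 1, 1, 1, 3, 3]

theorem patW6_ok (w : List ℕ) : (patW (vals6 L6) w).all Gen.ok = true :=
  patW_ok (vals6_ok L6_ok) w

theorem wv_eq_of_wordEq (x : ↥C3) (wx : List Gen) (hx : (x : Co0) = wordCo0 wx)
    (hok : wx.all Gen.ok = true) (w : List ℕ) (h : wordEq (patW (vals6 L6) w) wx = true) :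
    wv aC sC cC w = x := by
  apply Subtype.ext
  rw [coe_wv_eq L6 aC sC cC gl_coe w, hx]
  exact wordCo0_eq_of_wordEq (patW6_ok w) hok h

theorem uC_eq : wv aC sC cC uW = uC := wv_eq_of_wordEq uC wU uC_coe wU_ok uW (by decide +kernel)
theorem dC_eq : wv aC sC cC dW = dC := wv_eq_of_wordEq dC wD dC_coe wD_ok dW (by decide +kernel)
theorem zC_eq : wv aC sC cC zW = zC := wv_eq_of_wordEq zC wZ zC_coe wZ_ok zW (by decide +kernel)

theorem gl_mem_closure3 {Δ : Type*} [Group Δ] (x y z : Δ) (i : ℕ) :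
    gl x y z i ∈ closure ({x, y, z} : Set Δ) := by
  have hx : x ∈ closure ({x, y, z} : Set Δ) := subset_closure (by simp)
  have hy : y ∈ closure ({x, y, z} : Set Δ) := subset_closure (by simp)
  have hz : z ∈ closure ({x, y, z} : Set Δ) := subset_closure (by simp)
  rcases i with _ | _ | _ | _ | _ | _ | i
  · exact hx
  · exact inv_mem hx
  · exact hy
  · exact inv_mem hy
  · exact hz
  · exact inv_mem hz
  · exact one_mem _

theorem wv_mem_closure3 {Δ : Type*} [Group Δ] (x y z : Δ) (w : List ℕ) :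
    wv x y z w ∈ closure ({x, y, z} : Set Δ) := by
  induction w with
  | nil => rw [wv_nil]; exact one_mem _
  | cons i w ih => rw [wv_cons]; exact mul_mem (gl_mem_closure3 x y z i) ih

/-- `a`, `b`, `c` generate. -/
theorem closure_abc : closure ({aC, sC, cC} : Set ↥C3) = ⊤ := by
  rw [eq_top_iff, ← closure_C3, closure_le]
  rintro x (rfl | rfl | rfl | rfl)
  · exact subset_closure (by simp)
  · rw [← dC_eq]; exact wv_mem_closure3 _ _ _ _
  · rw [← uC_eq]; exact wv_mem_closure3 _ _ _ _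
  · rw [← zC_eq]; exact wv_mem_closure3 _ _ _ _

end Cfsg.Agent.Lib.H27.Co3M
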