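/-
helper27 library (S2045): the relator check in `Co0` split into parts (five generating vectors of the lattice per
`decide +kernel`), to keep the memory of the kernel small.
-/
import Cfsg.Agent.Lib.H27.Co3M.Letters

set_option autoImplicit false

namespace Cfsg.Agent.Lib.H27.Co3M

open Cfsg Cfsg.Agent.Lib.H27.Eng Cfsg.Agent.Lib.H27.Co3Out Cfsg.Agent.Lib.H27.AutRigid

/-- the word fixes the vectors of the list -/
def oneOn (L : List V) (w : List Gen) : Bool := L.all (fun b => decide (actWordF w b = b))

/-- part `j` of the generating vectors -/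
def genPart (j : ℕ) : List V := (genLists.drop (5 * j)).take 5

theorem genLists_length : genLists.length = 38 := by decide +kernel

theorem all_of_parts {α : Type*} (l : List α) (f : α → Bool) (n : ℕ) (hl : l.length ≤ 5 * n)
    (h : ∀ j < n, ((l.drop (5 * j)).take 5).all f = true) : l.all f = true := by
  rw [List.all_eq_true]
  intro b hb
  obtain ⟨i, hi, rfl⟩ := List.mem_iff_getElem.1 hb
  have hj : i / 5 < n := by omega
  have := h (i / 5) hj
  rw [List.all_eq_true] at this
  apply this
  rw [List.mem_iff_getElem]
  refine ⟨i - 5 * (i / 5), ?_, ?_⟩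
  · rw [List.length_take, List.length_drop]
    omega
  · rw [List.getElem_take, List.getElem_drop]
    congr 1
    omega

theorem relOK_of_parts (w : List ℕ)
    (h : ∀ j < 8, oneOn (genPart j) (patW (vals6 L6) w) = true) : relOK L6 w = true := by
  unfold relOK wordIsOneF
  apply all_of_parts genLists _ 8
  · rw [genLists_length]; norm_num
  · intro j hj
    exact h j hj

theorem relOK_of_parts8 (w : List ℕ)
    (h0 : oneOn (genPart 0) (patW (vals6 L6) w) = true)
    (h1 : oneOn (genPart 1) (patW (vals6 L6) w) = true)
    (h2 : oneOn (genPart 2) (patW (vals6 L6) w) = true)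
    (h3 : oneOn (genPart 3) (patW (vals6 L6) w) = true)
    (h4 : oneOn (genPart 4) (patW (vals6 L6) w) = true)
    (h5 : oneOn (genPart 5) (patW (vals6 L6) w) = true)
    (h6 : oneOn (genPart 6) (patW (vals6 L6) w) = true)
    (h7 : oneOn (genPart 7) (patW (vals6 L6) w) = true) : relOK L6 w = true := by
  apply relOK_of_parts
  intro j hj
  interval_cases j
  · exact h0
  · exact h1
  · exact h2
  · exact h3
  · exact h4
  · exact h5
  · exact h6
  · exact h7

end Cfsg.Agent.Lib.H27.Co3M
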