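/-
helper27 library (S2045): relators of `Co3` in `a`, `b`, `c` checked in `Co0`, part 6 (generated by
tools/co3m_h27/gen_gside.py).
-/
import Cfsg.Agent.Lib.H27.Co3M.RelChk2

set_option autoImplicit false
set_option maxRecDepth 100000
set_option Elab.async false

namespace Cfsg.Agent.Lib.H27.Co3M

open Cfsg Cfsg.Agent.Lib.H27.Eng Cfsg.Agent.Lib.H27.Co3Out Cfsg.Agent.Lib.H27.AutRigid

/-- a relator -/
def cw6_0 : List ℕ := [5, 1, 2, 4, 1, 5, 1, 3, 4, 1, 1, 2, 2, 0, 3, 3, 0, 2, 2, 0, 2, 0]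

theorem cw6_0_p0 : oneOn (genPart 0) (patW (vals6 L6) cw6_0) = true := by decide +kernel
theorem cw6_0_p1 : oneOn (genPart 1) (patW (vals6 L6) cw6_0) = true := by decide +kernel
theorem cw6_0_p2 : oneOn (genPart 2) (patW (vals6 L6) cw6_0) = true := by decide +kernel
theorem cw6_0_p3 : oneOn (genPart 3) (patW (vals6 L6) cw6_0) = true := by decide +kernel
theorem cw6_0_p4 : oneOn (genPart 4) (patW (vals6 L6) cw6_0) = true := by decide +kernel
theorem cw6_0_p5 : oneOn (genPart 5) (patW (vals6 L6) cw6_0) = true := by decide +kernel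
theorem cw6_0_p6 : oneOn (genPart 6) (patW (vals6 L6) cw6_0) = true := by decide +kernel
theorem cw6_0_p7 : oneOn (genPart 7) (patW (vals6 L6) cw6_0) = true := by decide +kernel

theorem cw6_0_ok : relOK L6 cw6_0 = true :=
  relOK_of_parts8 _ cw6_0_p0 cw6_0_p1 cw6_0_p2 cw6_0_p3 cw6_0_p4 cw6_0_p5 cw6_0_p6 cw6_0_p7

/-- a relator -/
def cw6_1 : List ℕ := [4, 0, 4, 3, 3, 4, 1, 3, 3, 5, 3, 0, 3, 3, 0, 2, 1, 1, 2, 1, 2, 2]

theorem cw6_1_p0 : oneOn (genPart 0) (patW (vals6 L6) cw6_1) = true := by decide +kernel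
theorem cw6_1_p1 : oneOn (genPart 1) (patW (vals6 L6) cw6_1) = true := by decide +kernel
theorem cw6_1_p2 : oneOn (genPart 2) (patW (vals6 L6) cw6_1) = true := by decide +kernel
theorem cw6_1_p3 : oneOn (genPart 3) (patW (vals6 L6) cw6_1) = true := by decide +kernel
theorem cw6_1_p4 : oneOn (genPart 4) (patW (vals6 L6) cw6_1) = true := by decide +kernel
theorem cw6_1_p5 : oneOn (genPart 5) (patW (vals6 L6) cw6_1) = true := by decide +kernel
theorem cw6_1_p6 : oneOn (genPart 6) (patW (vals6 L6) cw6_1) = true := by decide +kernel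
theorem cw6_1_p7 : oneOn (genPart 7) (patW (vals6 L6) cw6_1) = true := by decide +kernel

theorem cw6_1_ok : relOK L6 cw6_1 = true :=
  relOK_of_parts8 _ cw6_1_p0 cw6_1_p1 cw6_1_p2 cw6_1_p3 cw6_1_p4 cw6_1_p5 cw6_1_p6 cw6_1_p7

/-- a relator -/
def cw6_2 : List ℕ := [4, 3, 3, 0, 3, 3, 1, 1, 1, 2, 5, 2, 0, 0, 2, 0, 0, 3, 3, 0, 2, 2, 2, 1, 1, 2]

theorem cw6_2_p0 : oneOn (genPart 0) (patW (vals6 L6) cw6_2) = true := by decide +kernel
theorem cw6_2_p1 : oneOn (genPart 1) (patW (vals6 L6) cw6_2) = true := by decide +kernel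
theorem cw6_2_p2 : oneOn (genPart 2) (patW (vals6 L6) cw6_2) = true := by decide +kernel
theorem cw6_2_p3 : oneOn (genPart 3) (patW (vals6 L6) cw6_2) = true := by decide +kernel
theorem cw6_2_p4 : oneOn (genPart 4) (patW (vals6 L6) cw6_2) = true := by decide +kernel
theorem cw6_2_p5 : oneOn (genPart 5) (patW (vals6 L6) cw6_2) = true := by decide +kernel
theorem cw6_2_p6 : oneOn (genPart 6) (patW (vals6 L6) cw6_2) = true := by decide +kernel
theorem cw6_2_p7 : oneOn (genPart 7) (patW (vals6 L6) cw6_2) = true := by decide +kernel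

theorem cw6_2_ok : relOK L6 cw6_2 = true :=
  relOK_of_parts8 _ cw6_2_p0 cw6_2_p1 cw6_2_p2 cw6_2_p3 cw6_2_p4 cw6_2_p5 cw6_2_p6 cw6_2_p7

/-- a relator -/
def cw6_3 : List ℕ := [4, 2, 0, 2, 1, 1, 1, 2, 1, 3, 0, 3, 3, 5, 1, 3, 3, 1, 2, 1, 1, 2, 0, 3, 0]

theorem cw6_3_p0 : oneOn (genPart 0) (patW (vals6 L6) cw6_3) = true := by decide +kernel
theorem cw6_3_p1 : oneOn (genPart 1) (patW (vals6 L6) cw6_3) = true := by decide +kernel
theorem cw6_3_p2 : oneOn (genPart 2) (patW (vals6 L6) cw6_3) = true := by decide +kernel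
theorem cw6_3_p3 : oneOn (genPart 3) (patW (vals6 L6) cw6_3) = true := by decide +kernel
theorem cw6_3_p4 : oneOn (genPart 4) (patW (vals6 L6) cw6_3) = true := by decide +kernel
theorem cw6_3_p5 : oneOn (genPart 5) (patW (vals6 L6) cw6_3) = true := by decide +kernel
theorem cw6_3_p6 : oneOn (genPart 6) (patW (vals6 L6) cw6_3) = true := by decide +kernel
theorem cw6_3_p7 : oneOn (genPart 7) (patW (vals6 L6) cw6_3) = true := by decide +kernel

theorem cw6_3_ok : relOK L6 cw6_3 = true :=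
  relOK_of_parts8 _ cw6_3_p0 cw6_3_p1 cw6_3_p2 cw6_3_p3 cw6_3_p4 cw6_3_p5 cw6_3_p6 cw6_3_p7

/-- a relator -/
def cw6_4 : List ℕ := [4, 3, 0, 0, 3, 1, 1, 1, 2, 2, 1, 2, 0, 2, 2, 5, 0, 0, 3, 0, 3, 0, 2, 2]

theorem cw6_4_p0 : oneOn (genPart 0) (patW (vals6 L6) cw6_4) = true := by decide +kernel
theorem cw6_4_p1 : oneOn (genPart 1) (patW (vals6 L6) cw6_4) = true := by decide +kernel
theorem cw6_4_p2 : oneOn (genPart 2) (patW (vals6 L6) cw6_4) = true := by decide +kernel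
theorem cw6_4_p3 : oneOn (genPart 3) (patW (vals6 L6) cw6_4) = true := by decide +kernel
theorem cw6_4_p4 : oneOn (genPart 4) (patW (vals6 L6) cw6_4) = true := by decide +kernel
theorem cw6_4_p5 : oneOn (genPart 5) (patW (vals6 L6) cw6_4) = true := by decide +kernel
theorem cw6_4_p6 : oneOn (genPart 6) (patW (vals6 L6) cw6_4) = true := by decide +kernel
theorem cw6_4_p7 : oneOn (genPart 7) (patW (vals6 L6) cw6_4) = true := by decide +kernel

theorem cw6_4_ok : relOK L6 cw6_4 = true :=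
  relOK_of_parts8 _ cw6_4_p0 cw6_4_p1 cw6_4_p2 cw6_4_p3 cw6_4_p4 cw6_4_p5 cw6_4_p6 cw6_4_p7

/-- relators with the letter `c`, part 6 -/
def cL6 : List (List ℕ) := [cw6_0, cw6_1, cw6_2, cw6_3, cw6_4]

theorem cL6_ok : ∀ w ∈ cL6, relOK L6 w = true := by
  intro w hw
  simp only [cL6, List.mem_cons, List.not_mem_nil, or_false] at hw
  rcases hw with rfl | rfl | rfl | rfl | rfl
  · exact cw6_0_ok
  · exact cw6_1_ok
  · exact cw6_2_ok
  · exact cw6_3_ok
  · exact cw6_4_ok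

end Cfsg.Agent.Lib.H27.Co3M
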