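/-
helper27 library (S2045): the group side.  `C3 ≃ Co3` with the generators `a`, `b = s`, `c` satisfies all relators of the
certificate (generated by tools/co3m_h27/gen_gside.py).
-/
import Cfsg.Agent.Lib.H27.Co3M.ABChk
import Cfsg.Agent.Lib.H27.Co3M.Gen3
import Cfsg.Agent.Lib.H27.Co3M.C.Lists
import Cfsg.Agent.Lib.H27.Co3M.RelC0
import Cfsg.Agent.Lib.H27.Co3M.RelC1
import Cfsg.Agent.Lib.H27.Co3M.RelC2
import Cfsg.Agent.Lib.H27.Co3M.RelC3
import Cfsg.Agent.Lib.H27.Co3M.RelC4
import Cfsg.Agent.Lib.H27.Co3M.RelC5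
import Cfsg.Agent.Lib.H27.Co3M.RelC6
import Cfsg.Agent.Lib.H27.Co3M.RelC7

set_option autoImplicit false
set_option maxRecDepth 100000
set_option Elab.async false

namespace Cfsg.Agent.Lib.H27.Co3M

open Cfsg Cfsg.Agent.Lib.H27.Co3Out Cfsg.Agent.Lib.H27.Co3GenData Subgroup

/-- all relators with the letter `c` -/
def cAll : List (List ℕ) := cL0 ++ cL1 ++ cL2 ++ cL3 ++ cL4 ++ cL5 ++ cL6 ++ cL7

theorem cAll_ok : ∀ w ∈ cAll, wv aC sC cC w = 1 := by
  intro w hw
  simp only [cAll, List.mem_append] at hw
  rcases hw with ((((((h | h) | h) | h) | h) | h) | h) | h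
  · exact wv_eq_one_of_chk (cL0_ok w h)
  · exact wv_eq_one_of_chk (cL1_ok w h)
  · exact wv_eq_one_of_chk (cL2_ok w h)
  · exact wv_eq_one_of_chk (cL3_ok w h)
  · exact wv_eq_one_of_chk (cL4_ok w h)
  · exact wv_eq_one_of_chk (cL5_ok w h)
  · exact wv_eq_one_of_chk (cL6_ok w h)
  · exact wv_eq_one_of_chk (cL7_ok w h)

/-- a relator is a word in `a`, `b` trivial in `M23`, or one of the listed relators -/
noncomputable def gchk (w : List ℕ) : Bool := cond (abRelOK2 w) true (lmem w cAll)

theorem forall_of_chunks {α : Type*} (l : List α) (f : α → Bool) (m n : ℕ) (hm : 0 < m)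
    (hl : l.length ≤ m * n) (h : ∀ j < n, ((l.drop (m * j)).take m).all f = true) :
    ∀ x ∈ l, f x = true := by
  intro b hb
  obtain ⟨i, hi, rfl⟩ := List.mem_iff_getElem.1 hb
  have hj : i / m < n := by
    rw [Nat.div_lt_iff_lt_mul hm]
    calc i < l.length := hi
      _ ≤ m * n := hl
      _ = n * m := Nat.mul_comm _ _
  have := h (i / m) hj
  rw [List.all_eq_true] at this
  apply this
  rw [List.mem_iff_getElem]
  have hmod : i - m * (i / m) = i % m := by
    have := Nat.div_add_mod i m
    omega
  have hlt : i % m < m := Nat.mod_lt _ hm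
  refine ⟨i - m * (i / m), ?_, ?_⟩
  · rw [List.length_take, List.length_drop]
    have := Nat.div_add_mod i m
    omega
  · rw [List.getElem_take, List.getElem_drop]
    congr 1
    have := Nat.div_add_mod i m
    omega

/-- all relators of the certificate -/
def allW : List (List ℕ) := C.exactL ++ (C.symL ++ C.cenL)

theorem allW_length : allW.length = 881 := by decide +kernel

theorem gchk_0 : ((allW.drop (40 * 0)).take 40).all gchk = true := by decide +kernel
theorem gchk_1 : ((allW.drop (40 * 1)).take 40).all gchk = true := by decide +kernel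
theorem gchk_2 : ((allW.drop (40 * 2)).take 40).all gchk = true := by decide +kernel
theorem gchk_3 : ((allW.drop (40 * 3)).take 40).all gchk = true := by decide +kernel
theorem gchk_4 : ((allW.drop (40 * 4)).take 40).all gchk = true := by decide +kernel
theorem gchk_5 : ((allW.drop (40 * 5)).take 40).all gchk = true := by decide +kernel
theorem gchk_6 : ((allW.drop (40 * 6)).take 40).all gchk = true := by decide +kernel
theorem gchk_7 : ((allW.drop (40 * 7)).take 40).all gchk = true := by decide +kernel
theorem gchk_8 : ((allW.drop (40 * 8)).take 40).all gchk = true := by decide +kernel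
theorem gchk_9 : ((allW.drop (40 * 9)).take 40).all gchk = true := by decide +kernel
theorem gchk_10 : ((allW.drop (40 * 10)).take 40).all gchk = true := by decide +kernel
theorem gchk_11 : ((allW.drop (40 * 11)).take 40).all gchk = true := by decide +kernel
theorem gchk_12 : ((allW.drop (40 * 12)).take 40).all gchk = true := by decide +kernel
theorem gchk_13 : ((allW.drop (40 * 13)).take 40).all gchk = true := by decide +kernel
theorem gchk_14 : ((allW.drop (40 * 14)).take 40).all gchk = true := by decide +kernel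
theorem gchk_15 : ((allW.drop (40 * 15)).take 40).all gchk = true := by decide +kernel
theorem gchk_16 : ((allW.drop (40 * 16)).take 40).all gchk = true := by decide +kernel
theorem gchk_17 : ((allW.drop (40 * 17)).take 40).all gchk = true := by decide +kernel
theorem gchk_18 : ((allW.drop (40 * 18)).take 40).all gchk = true := by decide +kernel
theorem gchk_19 : ((allW.drop (40 * 19)).take 40).all gchk = true := by decide +kernel
theorem gchk_20 : ((allW.drop (40 * 20)).take 40).all gchk = true := by decide +kernel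
theorem gchk_21 : ((allW.drop (40 * 21)).take 40).all gchk = true := by decide +kernel
theorem gchk_22 : ((allW.drop (40 * 22)).take 40).all gchk = true := by decide +kernel

theorem gchk_ok : ∀ w ∈ allW, gchk w = true := by
  apply forall_of_chunks allW gchk 40 23 (by norm_num)
  · rw [allW_length]; norm_num
  · intro j hj
    interval_cases j
    · exact gchk_0
    · exact gchk_1
    · exact gchk_2
    · exact gchk_3
    · exact gchk_4
    · exact gchk_5
    · exact gchk_6
    · exact gchk_7
    · exact gchk_8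
    · exact gchk_9
    · exact gchk_10
    · exact gchk_11
    · exact gchk_12
    · exact gchk_13
    · exact gchk_14
    · exact gchk_15
    · exact gchk_16
    · exact gchk_17
    · exact gchk_18
    · exact gchk_19
    · exact gchk_20
    · exact gchk_21
    · exact gchk_22

theorem rel_all : ∀ w ∈ C.exactL ++ (C.symL ++ C.cenL), wv aC sC cC w = 1 := by
  intro w hw
  have h := gchk_ok w hw
  unfold gchk at h
  cases hab : abRelOK2 w with
  | true => exact wv_eq_one_of_abRelOK2 cC hab
  | false =>
    rw [hab] at h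
    exact cAll_ok w ((lmem_iff _ _).1 h)

/-- the exact relators `c k c⁻¹ = h` with `k` of order 7 -/
def conj2L : List (List ℕ × List ℕ × List ℕ × ℕ) := [([4], [0], [2, 2, 0, 0, 0, 3, 3], 7),
  ([4], [1], [2, 2, 1, 1, 1, 3, 3], 7),
  ([4], [3, 3, 3, 3, 1, 2, 2, 1, 2], [2, 1, 3, 1, 1, 1, 2, 0, 2, 0, 3, 1, 3], 7),
  ([4], [3, 0, 3, 3, 0, 2, 2, 2, 2], [2, 0, 2, 1, 3, 1, 3, 0, 0, 0, 2, 0, 3], 7),
  ([4], [3, 0, 2, 1, 1, 2, 0, 2, 1, 3, 1, 2], [3, 3, 3, 0, 0, 2, 0, 2, 0, 3], 7),
  ([4], [3, 0, 2, 0, 3, 1, 3, 0, 0, 3, 1, 2], [2, 1, 3, 1, 3, 1, 1, 2, 2, 2], 7),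
  ([4], [2, 2, 0, 0, 0, 2, 1, 2, 2], [0, 2, 0, 0, 0, 2, 0, 3, 0, 2, 1, 2, 2, 2, 0], 7),
  ([4], [3, 3, 0, 3, 1, 1, 1, 3, 3], [1, 3, 3, 3, 0, 3, 1, 2, 1, 3, 1, 1, 1, 3, 1], 7)]

theorem exact_ok : lall (exactOK2 11 conj2L) C.exactL = true := by decide +kernel

theorem wv_flatten_replicate {Δ : Type*} [Group Δ] (x y z : Δ) (k : List ℕ) (m : ℕ) :
    wv x y z (List.flatten (List.replicate m k)) = wv x y z k ^ m := by
  induction m with
  | zero => simp [wv]
  | succ m ih =>
    rw [List.replicate_succ, List.flatten_cons, wv_append, ih, pow_succ']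

theorem pow_ok : lall (fun p : List ℕ × List ℕ × List ℕ × ℕ =>
    abRelOK2 (List.flatten (List.replicate p.2.2.2 p.2.1))) conj2L = true := by decide +kernel

theorem pow_all : ∀ p ∈ conj2L, wv aC sC cC p.2.1 ^ p.2.2.2 = 1 := by
  intro p hp
  have h := forall_of_all pow_ok p hp
  rw [← wv_flatten_replicate]
  exact wv_eq_one_of_abRelOK2 cC h

theorem aC_mem_U : aC ∈ U := by
  unfold aC
  have hcl : closure ({sC, uC, (1 : ↥C3)} : Set ↥C3) ≤ U := by
    rw [closure_le]
    rintro x (rfl | rfl | rfl)
    · exact sC_mem_U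
    · exact uC_mem_U
    · exact one_mem _
  exact hcl (wv_mem_closure3 _ _ _ _)

/-- The data on `C3`. -/
theorem base3 : Base C.exactL (C.symL ++ C.cenL) 11 aC sC cC U where
  rel := rel_all
  cq := by
    have h := rel_all (List.replicate 11 4) (by decide)
    rwa [wv_replicate4] at h
  q_cop := by norm_num
  gen := closure_abc
  card := card_C3
  cardU := card_U
  a_mem := aC_mem_U
  b_mem := sC_mem_U
  perf := U_perf
  mult := U_mult

end Cfsg.Agent.Lib.H27.Co3M
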