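/-
helper27 library (S2045): the Schur multiplier of `Co3` is trivial.
-/
import Cfsg.Agent.Lib.H27.Co3M.GSide
import Cfsg.Agent.Lib.H27.Co3M.BoundC
import Cfsg.Agent.Lib.H8.StemExp
import Cfsg.Agent.Lib.H20.Schur

set_option autoImplicit false

namespace Cfsg.Agent.Lib.H27.Co3M

open Cfsg Cfsg.Agent.Lib.H28 Cfsg.Agent.Lib.H27.Co3Out

theorem exact_all : ∀ w ∈ C.exactL, exactOK2 11 conj2L w = true := forall_of_all exact_ok

/-- every finite stem extension of `C3` is an isomorphism -/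
theorem ker_C3 (Γ : Type) [Group Γ] [Finite Γ] (σ : Γ →* ↥C3) (hσ : Cfsg.IsStemExtension σ) :
    σ.ker = ⊥ :=
  base3.ker_eq_bot 30 10 (by norm_num) bound3 (base3.hex_of_exactOK2 conj2L pow_all exact_all)
    (fun h => Cfsg.Agent.Lib.H8.StemExp.ker_eq_bot_of_exp 30 10 h) Γ σ hσ

/-- the Schur multiplier of `Co3` is trivial -/
theorem multiplier_Co3 : Cfsg.HasCyclicSchurMultiplier ↥Cfsg.Spor.Co3 1 := by
  have : Finite ↥C3 := base3.finite
  have : Finite ↥Cfsg.Spor.Co3 := Finite.of_equiv _ eC3.toEquiv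
  exact Cfsg.Agent.Lib.H20.hasCyclicSchurMultiplier_one_of_ker
    (M12Mult.stem_trivial_of_equiv eC3.symm ker_C3)

end Cfsg.Agent.Lib.H27.Co3M
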